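import Cfsg.Agent.Lib.RuLattice.Data
import Cfsg.Prelude.Def_Spor_Ru

/-!
The lattice of the Rudvalis group has no vectors of norm 8.

The lattice lies in the span of an explicit basis, on which the form is even. The parities of a vector lie in a
code of dimension 9, which leaves few possible supports for a vector of norm 8; each possible vector fails a
congruence with a basis vector, found by splitting the support in two halves.
-/

set_option autoImplicit false
set_option Elab.async false

namespace Cfsg.Agent.RuLattice

open Cfsg Cfsg.Spor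

/-- The 28 coordinates in order. -/
def pts : List RuIdx := (List.finRange 7).flatMap fun n => (List.finRange 4).map fun t => (n, t)

/-- The vector of a list of 56 integers. -/
def rv (l : List ℤ) : RuVec := fun p =>
  ⟨l.getD (2 * (4 * p.1.val + p.2.val)) 0, l.getD (2 * (4 * p.1.val + p.2.val) + 1) 0⟩

/-- The 56 integers of a vector. -/
def toL (v : RuVec) : List ℤ := pts.flatMap fun p => [(v p).re, (v p).im]

/-- The real part of the Hermitian product. -/
def reProd (x y : RuVec) : ℤ := ∑ p, ((x p).re * (y p).re + (x p).im * (y p).im)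

/-- The product of two lists. -/
def dotL (a b : List ℤ) : ℤ := (List.zipWith (· * ·) a b).sum

theorem pts_facts : pts.Nodup ∧ pts.toFinset = (Finset.univ : Finset RuIdx) ∧ pts.length = 28 := by decide +kernel

theorem sum_pts {M : Type*} [AddCommMonoid M] (f : RuIdx → M) : (pts.map f).sum = ∑ p, f p := by
  rw [← pts_facts.2.1, List.sum_toFinset f pts_facts.1]

theorem dotL_flatMap (l : List RuIdx) (x y : RuVec) :
    dotL (l.flatMap fun p => [(x p).re, (x p).im]) (l.flatMap fun p => [(y p).re, (y p).im]) =
      (l.map fun p => (x p).re * (y p).re + (x p).im * (y p).im).sum := by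
  induction l with
  | nil => rfl
  | cons a l ih =>
    simp only [List.flatMap_cons, List.map_cons, List.sum_cons, dotL] at ih ⊢
    rw [show [(x a).re, (x a).im] = [(x a).re, (x a).im] from rfl]
    simp only [List.cons_append, List.nil_append, List.zipWith_cons_cons, List.sum_cons]
    rw [ih]; ring

theorem reProd_eq (x y : RuVec) : reProd x y = dotL (toL x) (toL y) := by
  rw [toL, toL, dotL_flatMap, sum_pts]; rfl

theorem ruNorm_eq (x : RuVec) : ruNorm x = reProd x x := by
  refine Finset.sum_congr rfl fun p _ => ?_
  rw [Zsqrtd.norm_def]; ring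

theorem toL_length (v : RuVec) : (toL v).length = 56 := by
  simp [toL, pts_facts.2.2, List.length_flatMap]

theorem rv_toL (v : RuVec) : rv (toL v) = v := by
  funext p
  obtain ⟨n, t⟩ := p
  fin_cases n <;> fin_cases t <;> simp [rv, toL, pts, List.finRange_succ, List.flatMap_cons]

/-- Adding a multiple to a list. -/
def axpy (q : ℤ) (a b : List ℤ) : List ℤ := List.zipWith (fun u v => u + q * v) a b

/-- A combination of basis vectors. -/
def combL : List (ℕ × ℤ) → List ℤ
  | [] => List.replicate 56 0
  | (i, q) :: cs => axpy q (combL cs) (basis.getD i [])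

theorem basis_len : basis.length = 56 ∧ (∀ t ∈ basis, t.length = 56) := by decide +kernel

theorem basis_toL : (basis.all fun t => toL (rv t) == t) = true := by decide +kernel

/-- The span of the basis. -/
def span : AddSubgroup RuVec := AddSubgroup.closure {x | ∃ t ∈ basis, rv t = x}

theorem rv_axpy {a b : List ℤ} (ha : a.length = 56) (hb : b.length = 56) (q : ℤ) :
    rv (axpy q a b) = rv a + q • rv b := by
  funext p
  have h1 := p.1.isLt
  have h2 := p.2.isLt
  have key : ∀ k, k < 56 → (axpy q a b).getD k 0 = a.getD k 0 + q * b.getD k 0 := fun k hk => by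
    rw [List.getD_eq_getElem _ _ (by simp [axpy, ha, hb]; omega), List.getD_eq_getElem _ _ (by omega),
      List.getD_eq_getElem _ _ (by omega)]
    simp [axpy]
  apply Zsqrtd.ext <;> simp only [rv, Pi.add_apply, Pi.smul_apply, Zsqrtd.re_add, Zsqrtd.im_add] <;>
    rw [key _ (by omega)] <;> simp [zsmul_eq_mul]

theorem combL_spec (cs : List (ℕ × ℤ)) (h : ∀ c ∈ cs, c.1 < 56) :
    (combL cs).length = 56 ∧ rv (combL cs) ∈ span := by
  induction cs with
  | nil =>
    refine ⟨by simp [combL], ?_⟩
    have : rv (combL []) = 0 := funext fun p => by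
      have hz : ∀ k, (List.replicate 56 (0 : ℤ)).getD k 0 = 0 := fun k => by
        by_cases hk : k < 56
        · rw [List.getD_eq_getElem _ _ (by simpa using hk)]; exact List.getElem_replicate _
        · rw [List.getD_eq_default _ _ (by simpa using hk)]
      apply Zsqrtd.ext <;> simp only [combL, rv, hz] <;> rfl
    rw [this]; exact zero_mem _
  | cons c cs ih =>
    obtain ⟨i, q⟩ := c
    obtain ⟨hl, hm⟩ := ih fun c hc => h c (List.mem_cons_of_mem _ hc)
    have hi : i < basis.length := by rw [basis_len.1]; exact h (i, q) (List.mem_cons_self)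
    have hb : basis.getD i [] ∈ basis := by rw [List.getD_eq_getElem _ _ hi]; exact List.getElem_mem hi
    have hbl := basis_len.2 _ hb
    refine ⟨by simp only [combL, axpy, List.length_zipWith, hl, hbl, min_self], ?_⟩
    rw [show combL ((i, q) :: cs) = axpy q (combL cs) (basis.getD i []) from rfl, rv_axpy hl hbl]
    exact add_mem hm (zsmul_mem (AddSubgroup.subset_closure (show rv (basis.getD i []) ∈ {x : RuVec | ∃ t ∈ basis, rv t = x} from ⟨_, hb, rfl⟩)) q)

/-- Check that the images of some vectors have the given coordinates. -/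
def imgOk (f : List ℤ → RuVec) (vs : List (List ℤ)) (cs : List (List (ℕ × ℤ))) : Bool :=
  vs.length == cs.length && (List.zipWith (fun v c => toL (f v) == combL c && c.all fun e => e.1 < 56) vs cs).all id

theorem imgOk_spec {f : List ℤ → RuVec} {vs : List (List ℤ)} {cs : List (List (ℕ × ℤ))}
    (h : imgOk f vs cs = true) {v : List ℤ} (hv : v ∈ vs) : f v ∈ span := by
  simp only [imgOk, Bool.and_eq_true, beq_iff_eq, List.all_eq_true] at h
  obtain ⟨k, hk, rfl⟩ := List.getElem_of_mem hv
  have := h.2 _ (List.getElem_mem (l := List.zipWith _ vs cs) (n := k) (by simp [← h.1, hk]))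
  simp only [List.getElem_zipWith, id, Bool.and_eq_true, beq_iff_eq, List.all_eq_true, decide_eq_true_eq] at this
  rw [← rv_toL (f _), this.1]
  exact (combL_spec _ this.2).2

theorem imgI : imgOk (fun l => gI • rv l) basis cI = true := by decide +kernel
theorem imgJ : imgOk (fun l => ruRj (rv l)) basis cJ = true := by decide +kernel
theorem imgK : imgOk (fun l => ruRk (rv l)) basis cK = true := by decide +kernel
theorem imgSign : imgOk (fun l => ruSign (rv l)) basis cSign = true := by decide +kernel
theorem imgShift : imgOk (fun l => ruShift (rv l)) basis cShift = true := by decide +kernel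
theorem imgGen : imgOk rv (ruTable.map toL) cGen = true := by decide +kernel
theorem imgHalves : imgOk (fun l => rv l + rv l) halves cHalves = true := by decide +kernel

/-- The lattice lies in the span. -/
theorem ruLattice_le : ruLattice ≤ span := by
  refine sInf_le ⟨fun v hv => ?_, ?_⟩
  · rw [← rv_toL v]; exact imgOk_spec imgGen (List.mem_map.2 ⟨v, hv, rfl⟩)
  · have key : ∀ (f : RuVec → RuVec), f 0 = 0 → (∀ a b, f (a + b) = f a + f b) →
        (∀ t ∈ basis, f (rv t) ∈ span) → ∀ v ∈ span, f v ∈ span := fun f h0 hadd hb v hv => by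
      let φ : RuVec →+ RuVec := ⟨⟨f, h0⟩, hadd⟩
      have : span ≤ span.comap φ := (AddSubgroup.closure_le _).2 fun x hx => by
        obtain ⟨t, ht, rfl⟩ := hx; exact hb t ht
      exact this hv
    intro v hv
    refine ⟨key (fun v => gI • v) (smul_zero _) (smul_add _) (fun t ht => imgOk_spec imgI ht) v hv,
      key ruRj ?_ ?_ (fun t ht => imgOk_spec imgJ ht) v hv,
      key ruRk ?_ ?_ (fun t ht => imgOk_spec imgK ht) v hv,
      key ruSign ?_ ?_ (fun t ht => imgOk_spec imgSign ht) v hv,
      key ruShift ?_ ?_ (fun t ht => imgOk_spec imgShift ht) v hv⟩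
    · funext ⟨n, t⟩; fin_cases t <;> simp [ruRj]
    · intro a b; funext ⟨n, t⟩; fin_cases t <;> simp [ruRj, mul_add, add_comm]
    · funext ⟨n, t⟩; fin_cases t <;> simp [ruRk]
    · intro a b; funext ⟨n, t⟩; fin_cases t <;> simp [ruRk, mul_add, add_comm]
    · funext p; simp [ruSign]
    · intro a b; funext p; simp only [ruSign, Pi.add_apply]; split <;> abel
    · funext p; simp [ruShift]
    · intro a b; funext p; simp [ruShift]

/-- The Gram check. -/
def gramOk : Bool := basis.all fun s => decide ((8 : ℤ) ∣ dotL s s) && basis.all fun t => decide ((4 : ℤ) ∣ dotL s t)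

theorem gramOk_true : gramOk = true := by decide +kernel

theorem reProd_basis {s t : List ℤ} (hs : s ∈ basis) (ht : t ∈ basis) : reProd (rv s) (rv t) = dotL s t := by
  have h := basis_toL
  simp only [List.all_eq_true, beq_iff_eq] at h
  rw [reProd_eq, h s hs, h t ht]

theorem reProd_add_left (x y z : RuVec) : reProd (x + y) z = reProd x z + reProd y z := by
  simp only [reProd, ← Finset.sum_add_distrib]
  exact Finset.sum_congr rfl fun p _ => by simp only [Pi.add_apply, Zsqrtd.re_add, Zsqrtd.im_add]; ring

theorem reProd_neg_left (x z : RuVec) : reProd (-x) z = -reProd x z := by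
  simp only [reProd, ← Finset.sum_neg_distrib]
  exact Finset.sum_congr rfl fun p _ => by simp only [Pi.neg_apply, Zsqrtd.re_neg, Zsqrtd.im_neg]; ring

theorem reProd_comm (x y : RuVec) : reProd x y = reProd y x :=
  Finset.sum_congr rfl fun p _ => by ring

theorem reProd_zero_left (z : RuVec) : reProd 0 z = 0 := by simp [reProd]

theorem four_dvd_reProd {x y : RuVec} (hx : x ∈ span) (hy : y ∈ span) : (4 : ℤ) ∣ reProd x y := by
  have hb : ∀ t ∈ basis, ∀ z ∈ span, (4 : ℤ) ∣ reProd z (rv t) := fun t ht z hz => by
    induction hz using AddSubgroup.closure_induction with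
    | mem z hz =>
      obtain ⟨s, hs, rfl⟩ := hz
      have h := gramOk_true
      simp only [gramOk, List.all_eq_true, Bool.and_eq_true, decide_eq_true_eq] at h
      rw [reProd_basis hs ht]; exact (h s hs).2 t ht
    | zero => rw [reProd_zero_left]; exact dvd_zero 4
    | add a b _ _ ha hb => rw [reProd_add_left]; exact dvd_add ha hb
    | neg a _ ha => rw [reProd_neg_left]; exact ha.neg_right
  induction hy using AddSubgroup.closure_induction with
  | mem z hz => obtain ⟨t, ht, rfl⟩ := hz; exact hb t ht x hx
  | zero => rw [reProd_comm, reProd_zero_left]; exact dvd_zero 4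
  | add a b _ _ ha hb => rw [reProd_comm, reProd_add_left, reProd_comm a, reProd_comm b]; exact dvd_add ha hb
  | neg a _ ha => rw [reProd_comm, reProd_neg_left, reProd_comm a]; exact ha.neg_right

theorem eight_dvd_norm {x : RuVec} (hx : x ∈ span) : (8 : ℤ) ∣ ruNorm x := by
  rw [ruNorm_eq]
  induction hx using AddSubgroup.closure_induction with
  | mem z hz =>
    obtain ⟨s, hs, rfl⟩ := hz
    have h := gramOk_true
    simp only [gramOk, List.all_eq_true, Bool.and_eq_true, decide_eq_true_eq] at h
    rw [reProd_basis hs hs]; exact (h s hs).1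
  | zero => rw [reProd_zero_left]; exact dvd_zero 8
  | add a b ha' hb' ha hb =>
    have h4 := four_dvd_reProd ha' hb'
    rw [reProd_add_left, reProd_comm a (a + b), reProd_comm b (a + b), reProd_add_left, reProd_add_left,
      reProd_comm b a]
    omega
  | neg a _ ha => rw [reProd_neg_left, reProd_comm, reProd_neg_left, neg_neg]; exact ha

end Cfsg.Agent.RuLattice
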