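import Mathlib

/-!
A basis of the lattice of the Rudvalis group over the integers (56 coordinates: real and imaginary parts
in turn), coordinates of the images of the basis under the generating maps, and auxiliary vectors.
Produced outside the kernel; checked by `decide +kernel` where used.
-/

set_option autoImplicit false
set_option linter.style.longLine false

namespace Cfsg.Agent.RuLattice

/-- A basis vector. -/
def basis0 : List ℤ := [1, 0, 0, 0, 0, 0, 0, -1, 0, 0, 0, -1, 0, 0, 0, -1, 0, 0, 0, 0, 0, 0, -1, -1, 0, 0, 0, -1, -1, 0, 0, 0, 0, -1, -1, 0, 0, 0, 1, -1, 0, -1, 0, 1, -1, 1, 0, 0, -1, 0, -1, -1, 0, 1, 0, -2]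
/-- A basis vector. -/
def basis1 : List ℤ := [0, 1, 0, 0, 0, 0, 0, -1, 0, 0, 0, 0, 0, -1, -1, 0, 0, 0, 0, 0, -1, 0, -1, 0, 0, -1, -1, -1, 0, -1, -1, -1, 0, -1, -1, -1, -1, -1, 1, 0, -1, -1, 0, 1, -1, 1, -2, 1, -1, 0, -2, -1, -1, 0, -2, -1]
/-- A basis vector. -/
def basis2 : List ℤ := [0, 0, 1, 0, 0, 0, 0, -1, 0, 0, 0, -1, 0, -1, 0, 0, 0, 0, 0, -1, -1, -1, -1, -2, 0, -1, -1, 0, 0, -1, -1, 0, 0, 0, 0, 1, 0, -1, -1, 1, -1, 0, 0, 1, -1, 1, -2, 0, -1, 1, -2, -2, 0, 1, 1, 0]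
/-- A basis vector. -/
def basis3 : List ℤ := [0, 0, 0, 1, 0, 0, 0, -1, 0, 0, 0, 0, 0, 0, -1, -1, 0, 0, 0, -1, 0, -1, -1, 1, 0, -1, -1, 0, 0, 0, -1, 1, 0, 0, 0, 0, -1, 0, 1, 0, 0, 0, -1, 0, 0, 0, -2, -1, -1, 0, 1, -1, -2, 0, -1, -2]
/-- A basis vector. -/
def basis4 : List ℤ := [0, 0, 0, 0, 1, 0, 0, -1, 0, 0, 0, 0, 0, -1, 0, -1, 0, 0, 0, -1, -1, -1, 0, -1, 0, -1, 0, 0, 0, 0, -1, -2, 0, -1, -1, 1, 0, -1, -2, 0, -1, -1, 0, 0, -1, 1, 1, -1, 0, -2, -2, -1, 0, 1, 1, -1]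
/-- A basis vector. -/
def basis5 : List ℤ := [0, 0, 0, 0, 0, 1, 0, -1, 0, 0, 0, -1, 0, 0, -1, 0, 0, 0, 0, -1, -1, 0, -1, 1, 0, 0, -1, 0, 0, 0, -1, 0, 0, 0, -1, -1, -1, -1, 1, -1, -1, 0, 0, 0, -1, 1, -2, 1, -1, 0, -2, -1, -1, 1, -2, -2]
/-- A basis vector. -/
def basis6 : List ℤ := [0, 0, 0, 0, 0, 0, 1, -1, 0, 0, 0, -1, 0, -1, -1, -1, 0, 0, 0, 0, -1, 0, 0, -1, 0, 0, 0, 0, -1, 0, -1, -2, 0, 0, 0, -1, -1, -1, 0, 1, -1, -1, -1, 0, -1, 0, 1, -1, 0, 0, -2, 1, -1, 1, 1, 0]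
/-- A basis vector. -/
def basis7 : List ℤ := [0, 0, 0, 0, 0, 0, 0, 2, 0, 0, 0, 0, 0, 0, 0, 0, 0, 0, 0, 0, -1, -1, -1, -1, 0, 0, 0, 0, 0, 0, 0, 0, 0, -1, 0, 1, 0, -1, -1, -2, 0, -1, -1, -2, -1, -2, -1, -2, -1, -1, -2, -2, 1, -1, -2, 0]
/-- A basis vector. -/
def basis8 : List ℤ := [0, 0, 0, 0, 0, 0, 0, 0, 1, 0, 0, -1, 0, -1, 0, -1, 0, 0, 0, 0, -1, -1, -1, -1, 0, 0, -1, -1, -1, -1, 0, -2, 0, 0, 0, 0, -1, -1, -1, 1, -1, 0, 0, 1, -1, 0, 1, 0, -1, -1, -2, 0, -1, -1, 0, 0]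
/-- A basis vector. -/
def basis9 : List ℤ := [0, 0, 0, 0, 0, 0, 0, 0, 0, 1, 0, -1, 0, -1, -1, 0, 0, 0, 0, 0, -1, -1, -1, 1, 0, 0, -1, -1, 0, 0, -1, 1, 0, -1, -1, -2, -1, 0, -1, -2, 0, 0, -1, 1, 0, 0, 1, -1, 0, 0, -1, -1, -2, -2, 1, -1]
/-- A basis vector. -/
def basis10 : List ℤ := [0, 0, 0, 0, 0, 0, 0, 0, 0, 0, 1, -1, 0, 0, -1, -1, 0, 0, 0, 0, 0, 0, 0, -2, 0, -1, 0, -1, -1, 0, 0, -1, 0, 0, 0, 0, -1, -1, -1, -1, -1, 0, 0, 1, -1, 0, 1, -2, -1, -1, -1, -1, -1, -1, 1, -1]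
/-- A basis vector. -/
def basis11 : List ℤ := [0, 0, 0, 0, 0, 0, 0, 0, 0, 0, 0, 2, 0, 0, 0, 0, 0, 0, 0, 0, -1, -1, -1, 1, 0, 0, 0, 0, 0, 0, 0, -2, 0, -1, 0, -1, 0, -1, 1, 0, -1, 0, 0, 1, 0, -1, 0, -1, -1, -1, -2, -2, 1, -1, -2, -2]
/-- A basis vector. -/
def basis12 : List ℤ := [0, 0, 0, 0, 0, 0, 0, 0, 0, 0, 0, 0, 1, -1, -1, -1, 0, 0, 0, 0, -1, -1, -1, 1, 0, -1, 0, -1, 0, -1, -1, -2, 0, 0, -1, -1, -1, -1, 0, 0, 0, -1, 0, 1, -1, 0, -2, 1, -1, -1, -2, 0, -1, -1, -2, 0]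
/-- A basis vector. -/
def basis13 : List ℤ := [0, 0, 0, 0, 0, 0, 0, 0, 0, 0, 0, 0, 0, 2, 0, 0, 0, 0, 0, 0, -1, -1, -1, 1, 0, 0, 0, 0, 0, 0, 0, -2, 0, -1, 0, -1, 0, -1, 1, 0, -1, 0, 0, 1, 0, 1, -2, -1, -1, 1, 0, -2, -1, 1, 0, 0]
/-- A basis vector. -/
def basis14 : List ℤ := [0, 0, 0, 0, 0, 0, 0, 0, 0, 0, 0, 0, 0, 0, 2, 0, 0, 0, 0, 0, -1, -1, -1, 1, 0, 0, 0, 0, 0, 0, 0, -2, 0, -1, 0, -1, 0, -1, 1, 0, -1, 0, 0, -1, 0, 1, -2, 1, -1, -1, 0, 0, 1, 1, -2, 0]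
/-- A basis vector. -/
def basis15 : List ℤ := [0, 0, 0, 0, 0, 0, 0, 0, 0, 0, 0, 0, 0, 0, 0, 2, 0, 0, 0, 0, -1, -1, -1, 1, 0, 0, 0, 0, 0, 0, 0, -2, 0, -1, 0, -1, 0, -1, 1, 0, -1, 0, 0, 1, 0, 1, 0, 1, -1, 1, -2, -2, 1, 1, -2, -2]
/-- A basis vector. -/
def basis16 : List ℤ := [0, 0, 0, 0, 0, 0, 0, 0, 0, 0, 0, 0, 0, 0, 0, 0, 1, 0, 0, -1, 0, -1, 0, 1, 0, 0, 0, 0, 0, 0, 0, -2, 0, 0, -1, 1, -1, -1, 0, -2, 0, -1, 0, -1, -1, -2, -2, -1, 0, -2, 0, -2, 1, -1, 1, 1]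
/-- A basis vector. -/
def basis17 : List ℤ := [0, 0, 0, 0, 0, 0, 0, 0, 0, 0, 0, 0, 0, 0, 0, 0, 0, 1, 0, -1, -1, 0, 0, 1, 0, 0, 0, 0, 0, 0, 0, 0, 0, -1, -1, 0, 0, -1, 0, -1, 0, -1, 0, 1, 0, 1, -1, 0, -1, -2, -2, -1, -2, 1, -2, 1]
/-- A basis vector. -/
def basis18 : List ℤ := [0, 0, 0, 0, 0, 0, 0, 0, 0, 0, 0, 0, 0, 0, 0, 0, 0, 0, 1, -1, 0, 0, -1, -1, 0, 0, 0, 0, 0, 0, 0, -2, 0, -1, 0, -1, -1, 0, 0, -1, -1, -1, -1, -1, 0, 0, -2, 0, -1, 0, -2, -1, 1, 0, -1, -2]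
/-- A basis vector. -/
def basis19 : List ℤ := [0, 0, 0, 0, 0, 0, 0, 0, 0, 0, 0, 0, 0, 0, 0, 0, 0, 0, 0, 2, 0, 0, 0, -2, 0, 0, 0, 0, 0, 0, 0, 0, 0, 0, 0, -2, 0, 0, -2, 0, -1, -1, -1, 1, -1, -1, 1, 1, -1, -1, -1, 1, 1, -1, -1, 1]
/-- A basis vector. -/
def basis20 : List ℤ := [0, 0, 0, 0, 0, 0, 0, 0, 0, 0, 0, 0, 0, 0, 0, 0, 0, 0, 0, 0, 2, 0, 0, -2, 0, 0, 0, 0, 0, 0, 0, 0, 0, 0, 0, -2, 0, 0, -2, 0, 0, 0, 0, -2, 0, -2, 0, 0, 0, -2, 0, 0, -2, 0, 0, 0]
/-- A basis vector. -/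
def basis21 : List ℤ := [0, 0, 0, 0, 0, 0, 0, 0, 0, 0, 0, 0, 0, 0, 0, 0, 0, 0, 0, 0, 0, 2, 0, -2, 0, 0, 0, 0, 0, 0, 0, 0, 0, 0, 0, -2, 0, 0, 0, -2, -1, -1, -1, -1, -1, 1, -1, -1, -1, -1, -1, 1, -1, -1, -1, -1]
/-- A basis vector. -/
def basis22 : List ℤ := [0, 0, 0, 0, 0, 0, 0, 0, 0, 0, 0, 0, 0, 0, 0, 0, 0, 0, 0, 0, 0, 0, 2, -2, 0, 0, 0, 0, 0, 0, 0, 0, 0, 0, 0, 0, 0, 0, -2, -2, -1, -1, -1, 1, -1, -1, -1, -1, -1, 1, 1, -1, 1, -1, 1, 1]
/-- A basis vector. -/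
def basis23 : List ℤ := [0, 0, 0, 0, 0, 0, 0, 0, 0, 0, 0, 0, 0, 0, 0, 0, 0, 0, 0, 0, 0, 0, 0, 4, 0, 0, 0, 0, 0, 0, 0, 0, 0, 0, 0, 0, 0, 0, 0, 0, 0, 0, 0, 0, 0, 0, 0, 0, 0, 0, 0, 0, 0, 0, 0, 0]
/-- A basis vector. -/
def basis24 : List ℤ := [0, 0, 0, 0, 0, 0, 0, 0, 0, 0, 0, 0, 0, 0, 0, 0, 0, 0, 0, 0, 0, 0, 0, 0, 1, -1, -1, -1, -1, -1, -1, -1, 0, 0, 0, 0, 0, 0, 0, 0, -1, -1, -1, -1, -1, -1, 1, -1, 0, -2, -2, -2, 0, -2, -2, -2]
/-- A basis vector. -/
def basis25 : List ℤ := [0, 0, 0, 0, 0, 0, 0, 0, 0, 0, 0, 0, 0, 0, 0, 0, 0, 0, 0, 0, 0, 0, 0, 0, 0, 2, 0, 0, 0, 0, 0, -2, 0, 0, 0, 0, 0, 0, -2, -2, -1, -1, -1, 1, -1, 1, -1, 1, -1, -1, 1, 1, -1, -1, 1, -1]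
/-- A basis vector. -/
def basis26 : List ℤ := [0, 0, 0, 0, 0, 0, 0, 0, 0, 0, 0, 0, 0, 0, 0, 0, 0, 0, 0, 0, 0, 0, 0, 0, 0, 0, 2, 0, 0, 0, 0, -2, 0, 0, 0, -2, 0, 0, 0, -2, -1, -1, -1, 1, -1, 1, -1, 1, -1, -1, 1, -1, -1, -1, 1, 1]
/-- A basis vector. -/
def basis27 : List ℤ := [0, 0, 0, 0, 0, 0, 0, 0, 0, 0, 0, 0, 0, 0, 0, 0, 0, 0, 0, 0, 0, 0, 0, 0, 0, 0, 0, 2, 0, 0, 0, -2, 0, 0, 0, 0, 0, 0, -2, -2, 0, 0, 0, 0, 0, 0, 0, 0, 0, -2, -2, 0, 0, 0, -2, -2]
/-- A basis vector. -/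
def basis28 : List ℤ := [0, 0, 0, 0, 0, 0, 0, 0, 0, 0, 0, 0, 0, 0, 0, 0, 0, 0, 0, 0, 0, 0, 0, 0, 0, 0, 0, 0, 2, 0, 0, -2, 0, 0, 0, 0, 0, 0, 0, 0, -1, -1, -1, 1, -1, 1, -1, 1, -1, -1, -1, -1, -1, 1, 1, 1]
/-- A basis vector. -/
def basis29 : List ℤ := [0, 0, 0, 0, 0, 0, 0, 0, 0, 0, 0, 0, 0, 0, 0, 0, 0, 0, 0, 0, 0, 0, 0, 0, 0, 0, 0, 0, 0, 2, 0, -2, 0, 0, 0, -2, 0, 0, -2, 0, 0, 0, 0, 0, 0, 0, 0, 0, 0, 0, -2, 0, 0, 0, -2, 0]
/-- A basis vector. -/
def basis30 : List ℤ := [0, 0, 0, 0, 0, 0, 0, 0, 0, 0, 0, 0, 0, 0, 0, 0, 0, 0, 0, 0, 0, 0, 0, 0, 0, 0, 0, 0, 0, 0, 2, -2, 0, 0, 0, -2, 0, 0, -2, 0, -1, -1, -1, 1, -1, 1, -1, 1, -1, 1, -1, -1, 1, 1, 1, 1]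
/-- A basis vector. -/
def basis31 : List ℤ := [0, 0, 0, 0, 0, 0, 0, 0, 0, 0, 0, 0, 0, 0, 0, 0, 0, 0, 0, 0, 0, 0, 0, 0, 0, 0, 0, 0, 0, 0, 0, 4, 0, 0, 0, 0, 0, 0, 0, 0, 0, 0, 0, 0, 0, 0, 0, 0, 0, 0, 0, 0, 0, 0, 0, 0]
/-- A basis vector. -/
def basis32 : List ℤ := [0, 0, 0, 0, 0, 0, 0, 0, 0, 0, 0, 0, 0, 0, 0, 0, 0, 0, 0, 0, 0, 0, 0, 0, 0, 0, 0, 0, 0, 0, 0, 0, 1, -1, -1, 1, -1, -1, 1, -1, -1, -1, -1, 1, -1, -1, 1, 1, 0, -2, -2, -2, 0, -2, 0, 0]
/-- A basis vector. -/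
def basis33 : List ℤ := [0, 0, 0, 0, 0, 0, 0, 0, 0, 0, 0, 0, 0, 0, 0, 0, 0, 0, 0, 0, 0, 0, 0, 0, 0, 0, 0, 0, 0, 0, 0, 0, 0, 2, 0, -2, 0, 0, -2, -2, -1, -1, -1, 1, -1, 1, -1, 1, -1, 1, 1, 1, -1, 1, 1, -1]
/-- A basis vector. -/
def basis34 : List ℤ := [0, 0, 0, 0, 0, 0, 0, 0, 0, 0, 0, 0, 0, 0, 0, 0, 0, 0, 0, 0, 0, 0, 0, 0, 0, 0, 0, 0, 0, 0, 0, 0, 0, 0, 2, -2, 0, 0, -2, -2, 0, 0, 0, 0, 0, 0, 0, 0, 0, -2, 0, -2, -2, 0, 0, -2]
/-- A basis vector. -/
def basis35 : List ℤ := [0, 0, 0, 0, 0, 0, 0, 0, 0, 0, 0, 0, 0, 0, 0, 0, 0, 0, 0, 0, 0, 0, 0, 0, 0, 0, 0, 0, 0, 0, 0, 0, 0, 0, 0, 4, 0, 0, 0, 0, 0, 0, 0, 0, 0, 0, 0, 0, 0, 0, 0, 0, 0, 0, 0, 0]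
/-- A basis vector. -/
def basis36 : List ℤ := [0, 0, 0, 0, 0, 0, 0, 0, 0, 0, 0, 0, 0, 0, 0, 0, 0, 0, 0, 0, 0, 0, 0, 0, 0, 0, 0, 0, 0, 0, 0, 0, 0, 0, 0, 0, 2, 0, -2, 0, -1, -1, -1, 1, -1, 1, -1, 1, -1, -1, -1, 1, -1, -1, 1, 1]
/-- A basis vector. -/
def basis37 : List ℤ := [0, 0, 0, 0, 0, 0, 0, 0, 0, 0, 0, 0, 0, 0, 0, 0, 0, 0, 0, 0, 0, 0, 0, 0, 0, 0, 0, 0, 0, 0, 0, 0, 0, 0, 0, 0, 0, 2, 0, -2, -1, -1, -1, 1, -1, 1, -1, 1, -1, 1, -1, -1, -1, 1, -1, 1]
/-- A basis vector. -/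
def basis38 : List ℤ := [0, 0, 0, 0, 0, 0, 0, 0, 0, 0, 0, 0, 0, 0, 0, 0, 0, 0, 0, 0, 0, 0, 0, 0, 0, 0, 0, 0, 0, 0, 0, 0, 0, 0, 0, 0, 0, 0, 4, 0, 0, 0, 0, 0, 0, 0, 0, 0, 0, 0, 0, 0, 0, 0, 0, 0]
/-- A basis vector. -/
def basis39 : List ℤ := [0, 0, 0, 0, 0, 0, 0, 0, 0, 0, 0, 0, 0, 0, 0, 0, 0, 0, 0, 0, 0, 0, 0, 0, 0, 0, 0, 0, 0, 0, 0, 0, 0, 0, 0, 0, 0, 0, 0, 4, 0, 0, 0, 0, 0, 0, 0, 0, 0, 0, 0, 0, 0, 0, 0, 0]
/-- A basis vector. -/
def basis40 : List ℤ := [0, 0, 0, 0, 0, 0, 0, 0, 0, 0, 0, 0, 0, 0, 0, 0, 0, 0, 0, 0, 0, 0, 0, 0, 0, 0, 0, 0, 0, 0, 0, 0, 0, 0, 0, 0, 0, 0, 0, 0, 2, 0, 0, -2, 0, -2, 0, -2, 0, 0, -2, -2, 0, 0, -2, -2]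
/-- A basis vector. -/
def basis41 : List ℤ := [0, 0, 0, 0, 0, 0, 0, 0, 0, 0, 0, 0, 0, 0, 0, 0, 0, 0, 0, 0, 0, 0, 0, 0, 0, 0, 0, 0, 0, 0, 0, 0, 0, 0, 0, 0, 0, 0, 0, 0, 0, 2, 0, -2, 0, -2, -2, 0, 0, -2, -2, 0, -2, 0, -2, 0]
/-- A basis vector. -/
def basis42 : List ℤ := [0, 0, 0, 0, 0, 0, 0, 0, 0, 0, 0, 0, 0, 0, 0, 0, 0, 0, 0, 0, 0, 0, 0, 0, 0, 0, 0, 0, 0, 0, 0, 0, 0, 0, 0, 0, 0, 0, 0, 0, 0, 0, 2, -2, 0, 0, -2, -2, 0, 0, -2, -2, -2, -2, 0, 0]
/-- A basis vector. -/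
def basis43 : List ℤ := [0, 0, 0, 0, 0, 0, 0, 0, 0, 0, 0, 0, 0, 0, 0, 0, 0, 0, 0, 0, 0, 0, 0, 0, 0, 0, 0, 0, 0, 0, 0, 0, 0, 0, 0, 0, 0, 0, 0, 0, 0, 0, 0, 4, 0, 0, 0, 0, 0, 0, 0, 0, 0, 0, 0, 0]
/-- A basis vector. -/
def basis44 : List ℤ := [0, 0, 0, 0, 0, 0, 0, 0, 0, 0, 0, 0, 0, 0, 0, 0, 0, 0, 0, 0, 0, 0, 0, 0, 0, 0, 0, 0, 0, 0, 0, 0, 0, 0, 0, 0, 0, 0, 0, 0, 0, 0, 0, 0, 2, -2, -2, -2, 0, -2, -2, 0, 0, -2, 0, -2]
/-- A basis vector. -/
def basis45 : List ℤ := [0, 0, 0, 0, 0, 0, 0, 0, 0, 0, 0, 0, 0, 0, 0, 0, 0, 0, 0, 0, 0, 0, 0, 0, 0, 0, 0, 0, 0, 0, 0, 0, 0, 0, 0, 0, 0, 0, 0, 0, 0, 0, 0, 0, 0, 4, 0, 0, 0, 0, 0, 0, 0, 0, 0, 0]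
/-- A basis vector. -/
def basis46 : List ℤ := [0, 0, 0, 0, 0, 0, 0, 0, 0, 0, 0, 0, 0, 0, 0, 0, 0, 0, 0, 0, 0, 0, 0, 0, 0, 0, 0, 0, 0, 0, 0, 0, 0, 0, 0, 0, 0, 0, 0, 0, 0, 0, 0, 0, 0, 0, 4, 0, 0, 0, 0, 0, 0, 0, 0, 0]
/-- A basis vector. -/
def basis47 : List ℤ := [0, 0, 0, 0, 0, 0, 0, 0, 0, 0, 0, 0, 0, 0, 0, 0, 0, 0, 0, 0, 0, 0, 0, 0, 0, 0, 0, 0, 0, 0, 0, 0, 0, 0, 0, 0, 0, 0, 0, 0, 0, 0, 0, 0, 0, 0, 0, 4, 0, 0, 0, 0, 0, 0, 0, 0]
/-- A basis vector. -/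
def basis48 : List ℤ := [0, 0, 0, 0, 0, 0, 0, 0, 0, 0, 0, 0, 0, 0, 0, 0, 0, 0, 0, 0, 0, 0, 0, 0, 0, 0, 0, 0, 0, 0, 0, 0, 0, 0, 0, 0, 0, 0, 0, 0, 0, 0, 0, 0, 0, 0, 0, 0, 2, -2, -2, -2, -2, -2, -2, -2]
/-- A basis vector. -/
def basis49 : List ℤ := [0, 0, 0, 0, 0, 0, 0, 0, 0, 0, 0, 0, 0, 0, 0, 0, 0, 0, 0, 0, 0, 0, 0, 0, 0, 0, 0, 0, 0, 0, 0, 0, 0, 0, 0, 0, 0, 0, 0, 0, 0, 0, 0, 0, 0, 0, 0, 0, 0, 4, 0, 0, 0, 0, 0, 0]
/-- A basis vector. -/
def basis50 : List ℤ := [0, 0, 0, 0, 0, 0, 0, 0, 0, 0, 0, 0, 0, 0, 0, 0, 0, 0, 0, 0, 0, 0, 0, 0, 0, 0, 0, 0, 0, 0, 0, 0, 0, 0, 0, 0, 0, 0, 0, 0, 0, 0, 0, 0, 0, 0, 0, 0, 0, 0, 4, 0, 0, 0, 0, 0]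
/-- A basis vector. -/
def basis51 : List ℤ := [0, 0, 0, 0, 0, 0, 0, 0, 0, 0, 0, 0, 0, 0, 0, 0, 0, 0, 0, 0, 0, 0, 0, 0, 0, 0, 0, 0, 0, 0, 0, 0, 0, 0, 0, 0, 0, 0, 0, 0, 0, 0, 0, 0, 0, 0, 0, 0, 0, 0, 0, 4, 0, 0, 0, 0]
/-- A basis vector. -/
def basis52 : List ℤ := [0, 0, 0, 0, 0, 0, 0, 0, 0, 0, 0, 0, 0, 0, 0, 0, 0, 0, 0, 0, 0, 0, 0, 0, 0, 0, 0, 0, 0, 0, 0, 0, 0, 0, 0, 0, 0, 0, 0, 0, 0, 0, 0, 0, 0, 0, 0, 0, 0, 0, 0, 0, 4, 0, 0, 0]
/-- A basis vector. -/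
def basis53 : List ℤ := [0, 0, 0, 0, 0, 0, 0, 0, 0, 0, 0, 0, 0, 0, 0, 0, 0, 0, 0, 0, 0, 0, 0, 0, 0, 0, 0, 0, 0, 0, 0, 0, 0, 0, 0, 0, 0, 0, 0, 0, 0, 0, 0, 0, 0, 0, 0, 0, 0, 0, 0, 0, 0, 4, 0, 0]
/-- A basis vector. -/
def basis54 : List ℤ := [0, 0, 0, 0, 0, 0, 0, 0, 0, 0, 0, 0, 0, 0, 0, 0, 0, 0, 0, 0, 0, 0, 0, 0, 0, 0, 0, 0, 0, 0, 0, 0, 0, 0, 0, 0, 0, 0, 0, 0, 0, 0, 0, 0, 0, 0, 0, 0, 0, 0, 0, 0, 0, 0, 4, 0]
/-- A basis vector. -/
def basis55 : List ℤ := [0, 0, 0, 0, 0, 0, 0, 0, 0, 0, 0, 0, 0, 0, 0, 0, 0, 0, 0, 0, 0, 0, 0, 0, 0, 0, 0, 0, 0, 0, 0, 0, 0, 0, 0, 0, 0, 0, 0, 0, 0, 0, 0, 0, 0, 0, 0, 0, 0, 0, 0, 0, 0, 0, 0, 4]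

/-- A basis vector. -/
def basis : List (List ℤ) :=
  [basis0, basis1, basis2, basis3, basis4, basis5, basis6, basis7, basis8, basis9, basis10, basis11, basis12, basis13, basis14, basis15, basis16, basis17, basis18, basis19, basis20, basis21, basis22, basis23, basis24, basis25, basis26, basis27, basis28, basis29, basis30, basis31, basis32, basis33, basis34, basis35, basis36, basis37, basis38, basis39, basis40, basis41, basis42, basis43, basis44, basis45, basis46, basis47, basis48, basis49, basis50, basis51, basis52, basis53, basis54, basis55]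

/-- Coordinates of an image. -/
def cI0 : List (ℕ × ℤ) := [(1, 1), (6, 1), (7, 1), (10, 1), (11, 1), (13, 1), (14, 2), (15, 1), (20, 4), (21, 3), (22, 4), (23, 5), (25, 1), (26, 1), (27, 1), (28, 1), (30, 1), (31, 6), (32, 1), (33, 4), (34, 1), (35, 8), (36, 2), (37, 5), (38, 8), (39, 11), (40, 16), (41, 13), (42, 12), (43, 18), (44, 13), (45, 19), (46, 26), (47, 19), (48, 15), (49, 23), (50, 39), (51, 25), (52, 25), (53, 20), (54, 24), (55, 23)]
/-- Coordinates of an image. -/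
def cI1 : List (ℕ × ℤ) := [(0, -1), (6, 1), (12, 1), (13, 1), (14, 1), (20, 2), (21, 1), (22, 1), (23, 1), (24, 1), (25, 1), (26, 1), (28, 1), (29, 1), (30, 2), (31, 5), (32, 1), (33, 1), (34, 1), (35, 5), (36, 2), (37, 2), (38, 5), (39, 4), (40, 9), (41, 7), (42, 7), (43, 10), (44, 7), (45, 10), (46, 14), (47, 9), (48, 7), (49, 13), (50, 22), (51, 13), (52, 14), (53, 11), (54, 12), (55, 10)]
/-- Coordinates of an image. -/
def cI2 : List (ℕ × ℤ) := [(3, 1), (6, 1), (7, 1), (10, 1), (11, 1), (12, 1), (13, 1), (14, 2), (15, 2), (18, 1), (19, 1), (20, 5), (21, 4), (22, 6), (23, 7), (24, 1), (25, 2), (26, 1), (27, 1), (28, 2), (29, 1), (30, 2), (31, 9), (33, 4), (35, 11), (36, 3), (37, 5), (38, 11), (39, 12), (40, 20), (41, 17), (42, 17), (43, 24), (44, 17), (45, 25), (46, 35), (47, 25), (48, 20), (49, 30), (50, 52), (51, 32), (52, 32), (53, 28), (54, 31), (55, 30)]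
/-- Coordinates of an image. -/
def cI3 : List (ℕ × ℤ) := [(2, -1), (6, 1), (14, 1), (18, 1), (20, 1), (24, 1), (28, 1), (31, 2), (33, 1), (35, 2), (36, 1), (38, 1), (39, 1), (40, 3), (41, 3), (42, 3), (43, 5), (44, 2), (45, 4), (46, 5), (47, 3), (48, 2), (49, 5), (50, 8), (51, 4), (52, 5), (53, 3), (54, 5), (55, 4)]
/-- Coordinates of an image. -/
def cI4 : List (ℕ × ℤ) := [(5, 1), (6, 1), (7, 1), (11, 1), (12, 1), (13, 1), (14, 2), (15, 1), (18, 1), (19, 1), (20, 5), (21, 3), (22, 5), (23, 6), (24, 1), (25, 1), (26, 1), (27, 1), (28, 1), (29, 1), (30, 3), (31, 8), (32, 1), (33, 4), (34, 1), (35, 11), (36, 3), (37, 5), (38, 11), (39, 11), (40, 19), (41, 16), (42, 16), (43, 23), (44, 16), (45, 24), (46, 33), (47, 23), (48, 19), (49, 29), (50, 50), (51, 31), (52, 30), (53, 26), (54, 30), (55, 28)]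
/-- Coordinates of an image. -/
def cI5 : List (ℕ × ℤ) := [(4, -1), (6, 1), (10, 1), (11, 1), (14, 1), (18, 1), (20, 1), (22, 1), (23, 1), (28, 1), (31, 2), (33, 1), (35, 2), (36, 2), (37, 1), (38, 2), (39, 2), (40, 5), (41, 3), (42, 4), (43, 5), (44, 3), (45, 5), (46, 7), (47, 5), (48, 5), (49, 6), (50, 12), (51, 7), (52, 7), (53, 6), (54, 7), (55, 6)]
/-- Coordinates of an image. -/
def cI6 : List (ℕ × ℤ) := [(6, 1), (7, 1), (10, 1), (11, 1), (12, 1), (13, 1), (14, 2), (15, 1), (20, 4), (21, 3), (22, 4), (23, 5), (25, 1), (27, 1), (28, 1), (30, 2), (31, 6), (33, 3), (34, 1), (35, 8), (36, 2), (37, 4), (38, 8), (39, 9), (40, 14), (41, 11), (42, 11), (43, 16), (44, 12), (45, 17), (46, 24), (47, 18), (48, 14), (49, 21), (50, 35), (51, 22), (52, 22), (53, 18), (54, 21), (55, 21)]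
/-- Coordinates of an image. -/
def cI7 : List (ℕ × ℤ) := [(6, -2), (7, -1), (11, -1), (13, -1), (14, -1), (15, -1), (20, -3), (21, -3), (22, -2), (23, -4), (28, -1), (30, -1), (31, -4), (32, 1), (33, -2), (35, -6), (37, -3), (38, -3), (39, -5), (40, -8), (41, -7), (42, -6), (43, -11), (44, -6), (45, -10), (46, -13), (47, -11), (48, -8), (49, -11), (50, -20), (51, -13), (52, -13), (53, -8), (54, -13), (55, -12)]
/-- Coordinates of an image. -/
def cI8 : List (ℕ × ℤ) := [(9, 1), (10, 1), (11, 1), (12, 1), (13, 1), (14, 2), (15, 1), (20, 4), (21, 3), (22, 4), (23, 4), (25, 1), (26, 1), (27, 1), (28, 1), (30, 2), (31, 6), (33, 3), (34, 1), (35, 9), (36, 2), (37, 3), (38, 8), (39, 9), (40, 13), (41, 10), (42, 10), (43, 14), (44, 11), (45, 15), (46, 22), (47, 16), (48, 14), (49, 20), (50, 32), (51, 21), (52, 22), (53, 18), (54, 19), (55, 20)]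
/-- Coordinates of an image. -/
def cI9 : List (ℕ × ℤ) := [(8, -1), (10, 1), (12, 1), (14, 1), (20, 1), (25, 1), (31, 1), (32, 1), (33, 1), (34, 2), (35, 2), (36, 1), (37, 1), (38, 3), (39, 3), (40, 3), (41, 3), (42, 2), (43, 3), (44, 3), (45, 4), (46, 6), (47, 3), (48, 3), (49, 7), (50, 8), (51, 5), (52, 7), (53, 4), (54, 5), (55, 6)]
/-- Coordinates of an image. -/
def cI10 : List (ℕ × ℤ) := [(10, 1), (11, 1), (14, 1), (20, 1), (21, 1), (22, 2), (23, 2), (24, 1), (25, 1), (26, 1), (27, 1), (28, 1), (30, 1), (31, 4), (33, 1), (35, 3), (36, 1), (37, 1), (38, 4), (39, 4), (40, 7), (41, 5), (42, 5), (43, 7), (44, 6), (45, 8), (46, 11), (47, 9), (48, 7), (49, 11), (50, 17), (51, 11), (52, 10), (53, 10), (54, 10), (55, 11)]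
/-- Coordinates of an image. -/
def cI11 : List (ℕ × ℤ) := [(10, -2), (11, -1), (14, -1), (15, -1), (20, -1), (21, -2), (22, -2), (23, -3), (25, -1), (27, -1), (28, -1), (30, 1), (31, -3), (32, 1), (33, -1), (34, 1), (35, -2), (37, -2), (38, -2), (39, -4), (40, -6), (41, -4), (42, -4), (43, -6), (44, -4), (45, -6), (46, -8), (47, -8), (48, -6), (49, -8), (50, -13), (51, -9), (52, -8), (53, -7), (54, -9), (55, -10)]
/-- Coordinates of an image. -/
def cI12 : List (ℕ × ℤ) := [(12, 1), (13, 1), (14, 1), (20, 2), (21, 1), (22, 1), (23, 1), (24, 1), (25, 1), (26, 1), (27, 1), (28, 1), (29, 1), (30, 2), (31, 5), (33, 1), (34, 1), (35, 5), (36, 1), (37, 1), (38, 5), (39, 4), (40, 7), (41, 6), (42, 5), (43, 8), (44, 6), (45, 8), (46, 12), (47, 7), (48, 7), (49, 12), (50, 18), (51, 11), (52, 12), (53, 9), (54, 11), (55, 10)]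
/-- Coordinates of an image. -/
def cI13 : List (ℕ × ℤ) := [(12, -2), (13, -1), (14, -1), (15, -1), (20, -2), (21, -3), (22, -3), (23, -3), (25, -1), (27, -1), (29, -1), (31, -4), (32, 1), (33, -1), (35, -5), (37, -2), (38, -4), (39, -5), (40, -6), (41, -6), (42, -5), (43, -8), (44, -6), (45, -8), (46, -13), (47, -9), (48, -8), (49, -11), (50, -17), (51, -10), (52, -12), (53, -10), (54, -13), (55, -11)]
/-- Coordinates of an image. -/
def cI14 : List (ℕ × ℤ) := [(15, 1), (20, 1), (30, 1), (31, 1), (32, 1), (33, 1), (34, 1), (35, 2), (36, 1), (37, 1), (38, 2), (39, 2), (40, 3), (41, 2), (42, 3), (43, 3), (44, 2), (45, 3), (46, 4), (47, 2), (48, 3), (49, 4), (50, 8), (51, 6), (52, 5), (53, 4), (54, 4), (55, 4)]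
/-- Coordinates of an image. -/
def cI15 : List (ℕ × ℤ) := [(14, -1), (21, -1), (22, -1), (23, -1), (30, 1), (32, 1), (34, 1), (36, 1), (38, 1), (43, -1), (46, -1), (47, -1), (48, -1), (50, 1), (54, -1), (55, -1)]
/-- Coordinates of an image. -/
def cI16 : List (ℕ × ℤ) := [(17, 1), (18, 1), (19, 1), (20, 1), (23, 1), (30, 1), (31, 1), (33, 1), (35, 2), (36, 1), (38, 3), (39, 1), (40, 3), (41, 3), (42, 3), (43, 4), (44, 3), (45, 4), (46, 6), (47, 3), (48, 4), (49, 6), (50, 10), (51, 5), (52, 6), (53, 5), (54, 5), (55, 5)]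
/-- Coordinates of an image. -/
def cI17 : List (ℕ × ℤ) := [(16, -1), (18, 1), (21, -1), (32, 1), (33, 1), (36, 1), (38, 1), (40, 2), (41, 1), (42, 1), (43, 1), (45, 1), (46, 1), (48, 2), (49, 1), (50, 4), (51, 2), (52, 2), (53, 1), (54, 2), (55, 2)]
/-- Coordinates of an image. -/
def cI18 : List (ℕ × ℤ) := [(18, 1), (19, 1), (22, 1), (23, 1), (30, 1), (31, 1), (32, 1), (33, 1), (34, 1), (35, 2), (36, 1), (38, 3), (39, 2), (40, 4), (41, 3), (42, 4), (43, 4), (44, 3), (45, 5), (46, 6), (47, 4), (48, 3), (49, 5), (50, 10), (51, 6), (52, 5), (53, 6), (54, 5), (55, 5)]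
/-- Coordinates of an image. -/
def cI19 : List (ℕ × ℤ) := [(18, -2), (19, -1), (23, -1), (31, -1), (33, -1), (34, 1), (35, -1), (36, -1), (38, -1), (39, -1), (40, -2), (41, -3), (42, -3), (43, -4), (44, -1), (45, -3), (46, -5), (47, -2), (48, -2), (49, -3), (50, -7), (51, -3), (52, -3), (53, -3), (54, -4), (55, -3)]
/-- Coordinates of an image. -/
def cI20 : List (ℕ × ℤ) := [(21, 1), (22, 1), (23, 1), (34, 1), (35, 1), (38, 1), (39, 1), (40, 1), (41, 1), (42, 2), (43, 2), (44, 2), (45, 2), (46, 3), (47, 3), (48, 2), (49, 3), (50, 4), (51, 3), (52, 3), (53, 3), (54, 2), (55, 3)]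
/-- Coordinates of an image. -/
def cI21 : List (ℕ × ℤ) := [(20, -1), (22, 1), (34, 1), (38, 1), (39, 1), (40, 1), (42, 1), (46, 1), (47, 1), (48, 1), (50, 1), (51, 2), (52, 1), (53, 1), (54, 1), (55, 1)]
/-- Coordinates of an image. -/
def cI22 : List (ℕ × ℤ) := [(22, 1), (23, 1), (38, 1), (40, 1), (44, 1), (45, 1), (46, 1), (47, 1), (50, 1), (51, 1), (53, 1), (55, 1)]
/-- Coordinates of an image. -/
def cI23 : List (ℕ × ℤ) := [(22, -2), (23, -1), (38, -1), (39, -1), (40, -1), (41, -1), (42, -1), (43, -1), (44, -1), (45, -2), (46, -2), (47, -2), (48, -1), (49, -1), (50, -2), (51, -2), (52, -1), (53, -2), (54, -1), (55, -1)]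
/-- Coordinates of an image. -/
def cI24 : List (ℕ × ℤ) := [(24, 1), (25, 1), (26, 1), (28, 1), (30, 1), (31, 2), (35, 1), (38, 1), (39, 1), (40, 3), (41, 2), (42, 3), (43, 3), (44, 3), (45, 3), (46, 5), (47, 4), (48, 3), (49, 5), (50, 8), (51, 5), (52, 5), (53, 5), (54, 4), (55, 4)]
/-- Coordinates of an image. -/
def cI25 : List (ℕ × ℤ) := [(24, -2), (25, -1), (26, -1), (27, -1), (28, -1), (29, -1), (31, -3), (35, -1), (38, -1), (39, -2), (40, -2), (41, -3), (42, -3), (43, -4), (44, -3), (45, -4), (46, -5), (47, -4), (48, -1), (49, -6), (50, -8), (51, -4), (52, -4), (53, -5), (54, -4), (55, -4)]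
/-- Coordinates of an image. -/
def cI26 : List (ℕ × ℤ) := [(27, 1), (30, 1), (31, 1), (34, 1), (35, 1), (38, 2), (39, 1), (40, 1), (48, 1), (49, 1), (50, 2), (51, 2), (52, 1), (54, 1), (55, 2)]
/-- Coordinates of an image. -/
def cI27 : List (ℕ × ℤ) := [(26, -1), (30, 1), (38, 1), (39, -1), (48, 1), (50, 1), (54, 1)]
/-- Coordinates of an image. -/
def cI28 : List (ℕ × ℤ) := [(29, 1), (30, 1), (31, 1), (35, 1), (38, 1), (40, 1), (48, 1), (50, 2), (51, 1), (54, 1), (55, 1)]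
/-- Coordinates of an image. -/
def cI29 : List (ℕ × ℤ) := [(28, -1), (30, 1), (34, 1), (35, 1), (38, 1)]
/-- Coordinates of an image. -/
def cI30 : List (ℕ × ℤ) := [(30, 1), (31, 1), (34, 1), (35, 1), (38, 1), (40, 1), (50, 1), (51, 1), (55, 1)]
/-- Coordinates of an image. -/
def cI31 : List (ℕ × ℤ) := [(30, -2), (31, -1), (35, -1), (38, -1), (40, -1), (41, -1), (42, -1), (43, -1), (44, -1), (45, -1), (46, -2), (47, -1), (48, -1), (49, -1), (50, -3), (51, -2), (52, -1), (53, -1), (54, -1), (55, -1)]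
/-- Coordinates of an image. -/
def cI32 : List (ℕ × ℤ) := [(32, 1), (33, 1), (36, 1), (38, 1), (39, 1), (40, 2), (41, 1), (42, 1), (43, 1), (44, 2), (45, 2), (46, 2), (47, 2), (48, 2), (49, 3), (50, 5), (51, 2), (52, 3), (53, 3), (54, 2), (55, 3)]
/-- Coordinates of an image. -/
def cI33 : List (ℕ × ℤ) := [(32, -2), (33, -1), (36, -1), (37, -1), (39, -2), (40, -2), (41, -3), (42, -3), (43, -3), (44, -3), (45, -4), (46, -5), (47, -3), (48, -2), (49, -5), (50, -8), (51, -4), (52, -5), (53, -5), (54, -3), (55, -3)]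
/-- Coordinates of an image. -/
def cI34 : List (ℕ × ℤ) := [(34, 1), (35, 1), (38, 1), (48, 1), (49, 1), (50, 1), (51, 1), (52, 1), (54, 1), (55, 1)]
/-- Coordinates of an image. -/
def cI35 : List (ℕ × ℤ) := [(34, -2), (35, -1), (38, -1), (39, -1), (49, -1), (51, -1), (52, -1), (55, -1)]
/-- Coordinates of an image. -/
def cI36 : List (ℕ × ℤ) := [(37, 1), (40, 1), (48, 1), (50, 1), (51, 1), (52, 1), (54, 1), (55, 1)]
/-- Coordinates of an image. -/
def cI37 : List (ℕ × ℤ) := [(36, -1), (41, -1), (42, -1), (43, -1), (44, -1), (45, -1), (46, -2), (47, -1), (48, -1), (49, -2), (50, -2), (51, -1), (52, -2), (53, -2), (54, -1), (55, -1)]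
/-- Coordinates of an image. -/
def cI38 : List (ℕ × ℤ) := [(39, 1)]
/-- Coordinates of an image. -/
def cI39 : List (ℕ × ℤ) := [(38, -1)]
/-- Coordinates of an image. -/
def cI40 : List (ℕ × ℤ) := [(41, 1), (42, 1), (43, 1), (44, 1), (45, 1), (46, 2), (47, 1), (49, 1), (50, 2), (52, 1), (53, 1), (54, 1)]
/-- Coordinates of an image. -/
def cI41 : List (ℕ × ℤ) := [(40, -1), (42, 1), (44, 1), (46, 1), (48, 1), (49, 1), (50, 1), (52, 1), (53, 1)]
/-- Coordinates of an image. -/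
def cI42 : List (ℕ × ℤ) := [(42, 1), (43, 1), (46, 1), (50, 1), (52, 1)]
/-- Coordinates of an image. -/
def cI43 : List (ℕ × ℤ) := [(42, -2), (43, -1), (46, -1), (47, -1), (50, -1), (51, -1), (52, -1), (53, -1)]
/-- Coordinates of an image. -/
def cI44 : List (ℕ × ℤ) := [(44, 1), (45, 1), (46, 1), (48, 1), (49, 1), (50, 1), (52, 1), (53, 1), (54, 1), (55, 1)]
/-- Coordinates of an image. -/
def cI45 : List (ℕ × ℤ) := [(44, -2), (45, -1), (46, -1), (47, -1), (49, -1), (50, -1), (53, -1), (55, -1)]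
/-- Coordinates of an image. -/
def cI46 : List (ℕ × ℤ) := [(47, 1)]
/-- Coordinates of an image. -/
def cI47 : List (ℕ × ℤ) := [(46, -1)]
/-- Coordinates of an image. -/
def cI48 : List (ℕ × ℤ) := [(48, 1), (49, 1), (50, 1), (52, 1), (54, 1)]
/-- Coordinates of an image. -/
def cI49 : List (ℕ × ℤ) := [(48, -2), (49, -1), (50, -1), (51, -1), (52, -1), (53, -1), (54, -1), (55, -1)]
/-- Coordinates of an image. -/
def cI50 : List (ℕ × ℤ) := [(51, 1)]
/-- Coordinates of an image. -/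
def cI51 : List (ℕ × ℤ) := [(50, -1)]
/-- Coordinates of an image. -/
def cI52 : List (ℕ × ℤ) := [(53, 1)]
/-- Coordinates of an image. -/
def cI53 : List (ℕ × ℤ) := [(52, -1)]
/-- Coordinates of an image. -/
def cI54 : List (ℕ × ℤ) := [(55, 1)]
/-- Coordinates of an image. -/
def cI55 : List (ℕ × ℤ) := [(54, -1)]

/-- Coordinates of an image. -/
def cI : List (List (ℕ × ℤ)) :=
  [cI0, cI1, cI2, cI3, cI4, cI5, cI6, cI7, cI8, cI9, cI10, cI11, cI12, cI13, cI14, cI15, cI16, cI17, cI18, cI19, cI20, cI21, cI22, cI23, cI24, cI25, cI26, cI27, cI28, cI29, cI30, cI31, cI32, cI33, cI34, cI35, cI36, cI37, cI38, cI39, cI40, cI41, cI42, cI43, cI44, cI45, cI46, cI47, cI48, cI49, cI50, cI51, cI52, cI53, cI54, cI55]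

/-- Coordinates of an image. -/
def cJ0 : List (ℕ × ℤ) := [(3, 1), (5, -1), (8, 1), (15, 1), (21, 1), (22, 1), (23, 1), (24, 1), (25, 1), (26, 1), (27, 1), (28, 1), (29, 1), (30, 1), (31, 4), (35, 2), (36, 1), (38, 3), (39, 2), (40, 4), (41, 4), (42, 5), (43, 5), (44, 4), (45, 5), (46, 8), (47, 6), (48, 5), (49, 8), (50, 13), (51, 8), (52, 8), (53, 8), (54, 7), (55, 7)]
/-- Coordinates of an image. -/
def cJ1 : List (ℕ × ℤ) := [(2, -1), (5, -1), (7, -1), (11, -1), (12, -1), (13, -1), (14, -1), (19, -1), (20, -4), (21, -3), (22, -3), (23, -5), (24, 1), (25, -1), (29, -1), (30, -1), (31, -3), (32, 1), (33, -2), (35, -7), (37, -3), (38, -6), (39, -6), (40, -9), (41, -7), (42, -6), (43, -11), (44, -9), (45, -12), (46, -17), (47, -12), (48, -10), (49, -14), (50, -23), (51, -14), (52, -15), (53, -12), (54, -15), (55, -14)]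
/-- Coordinates of an image. -/
def cJ2 : List (ℕ × ℤ) := [(1, 1), (5, -1), (8, 1), (13, 1), (15, 1), (16, 1), (20, 1), (21, 1), (22, 2), (23, 2), (26, 1), (27, 1), (29, 1), (31, 4), (32, -1), (33, 1), (35, 3), (37, 2), (38, 3), (39, 4), (40, 4), (41, 4), (42, 3), (43, 4), (44, 3), (45, 5), (46, 8), (47, 5), (48, 6), (49, 6), (50, 11), (51, 8), (52, 8), (53, 6), (54, 8), (55, 6)]
/-- Coordinates of an image. -/
def cJ3 : List (ℕ × ℤ) := [(0, -1), (5, -1), (7, -1), (11, -1), (12, -1), (13, -1), (14, -1), (15, -1), (16, 1), (20, -4), (21, -2), (22, -4), (23, -4), (25, -1), (27, -1), (28, -1), (30, -1), (31, -4), (33, -3), (34, -1), (35, -7), (37, -3), (38, -6), (39, -8), (40, -10), (41, -9), (42, -8), (43, -12), (44, -10), (45, -14), (46, -19), (47, -13), (48, -11), (49, -16), (50, -27), (51, -18), (52, -18), (53, -14), (54, -17), (55, -18)]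
/-- Coordinates of an image. -/
def cJ4 : List (ℕ × ℤ) := [(5, -1), (6, -1), (7, -1), (11, -1), (13, -1), (14, -1), (16, 1), (20, -3), (21, -2), (22, -2), (23, -3), (28, -1), (29, -1), (30, -1), (31, -3), (32, -1), (33, -3), (35, -6), (36, -2), (37, -3), (38, -5), (39, -5), (40, -10), (41, -8), (42, -8), (43, -12), (44, -8), (45, -12), (46, -16), (47, -12), (48, -9), (49, -14), (50, -25), (51, -15), (52, -16), (53, -12), (54, -15), (55, -14)]
/-- Coordinates of an image. -/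
def cJ5 : List (ℕ × ℤ) := [(5, -1), (7, -1), (8, 1), (12, -1), (14, -1), (16, 1), (20, -2), (22, -1), (23, -1), (25, -1), (30, -1), (31, -1), (32, 1), (33, -1), (35, -3), (36, 1), (37, -1), (38, -2), (39, -2), (40, -2), (41, -2), (42, -2), (43, -4), (44, -3), (45, -3), (46, -6), (47, -3), (48, -3), (49, -4), (50, -6), (51, -4), (52, -5), (53, -3), (54, -5), (55, -5)]
/-- Coordinates of an image. -/
def cJ6 : List (ℕ × ℤ) := [(4, 1), (5, -1), (8, 1), (12, -1), (14, -1), (15, 1), (23, 1), (29, -1), (32, 1), (33, 1), (35, -1), (37, 1), (38, 1), (39, 1), (40, 2), (41, 1), (42, 2), (43, 1), (44, 2), (45, 2), (46, 1), (47, 3), (49, 1), (50, 4), (51, 3), (52, 2), (53, 2), (55, 2)]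
/-- Coordinates of an image. -/
def cJ7 : List (ℕ × ℤ) := [(5, 2), (7, 1), (11, 1), (14, 1), (19, 1), (20, 2), (21, 1), (22, 3), (23, 3), (26, 1), (30, 1), (31, 2), (32, -1), (33, 1), (34, 1), (35, 5), (37, 1), (38, 4), (39, 5), (40, 7), (41, 4), (42, 5), (43, 8), (44, 5), (45, 8), (46, 11), (47, 9), (48, 8), (49, 9), (50, 16), (51, 12), (52, 9), (53, 9), (54, 11), (55, 11)]
/-- Coordinates of an image. -/
def cJ8 : List (ℕ × ℤ) := [(8, 1), (11, 1), (15, 1), (20, 1), (21, 1), (22, 2), (23, 2), (24, 1), (26, 1), (27, 1), (28, 1), (30, 1), (31, 4), (33, 1), (35, 3), (37, 2), (38, 3), (39, 4), (40, 6), (41, 5), (42, 5), (43, 6), (44, 6), (45, 8), (46, 10), (47, 8), (48, 6), (49, 9), (50, 17), (51, 11), (52, 9), (53, 9), (54, 10), (55, 10)]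
/-- Coordinates of an image. -/
def cJ9 : List (ℕ × ℤ) := [(8, 1), (10, -1), (12, -1), (14, -1), (20, -1), (24, 1), (25, -1), (26, 1), (29, 1), (32, 2), (34, 1), (37, -1), (42, 1), (44, 1), (45, 1), (46, -1), (47, 1), (48, -1), (49, 1), (50, 2), (51, 2), (53, 2), (55, 1)]
/-- Coordinates of an image. -/
def cJ10 : List (ℕ × ℤ) := [(8, 1), (9, 1), (11, 1), (12, -1), (20, 1), (22, 1), (23, 1), (24, 1), (26, 2), (27, 1), (28, 1), (30, 1), (31, 3), (33, 1), (35, 3), (38, 3), (39, 3), (40, 4), (41, 3), (42, 4), (43, 4), (44, 4), (45, 5), (46, 6), (47, 6), (48, 4), (49, 7), (50, 11), (51, 8), (52, 7), (53, 7), (54, 5), (55, 7)]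
/-- Coordinates of an image. -/
def cJ11 : List (ℕ × ℤ) := [(8, -2), (11, -1), (13, -1), (15, -1), (20, -3), (21, -2), (22, -2), (23, -3), (26, -1), (27, -1), (28, -1), (29, -2), (31, -5), (32, 1), (33, -1), (34, 1), (35, -5), (37, -2), (38, -4), (39, -3), (40, -7), (41, -4), (42, -4), (43, -7), (44, -5), (45, -8), (46, -9), (47, -8), (48, -6), (49, -9), (50, -16), (51, -10), (52, -10), (53, -8), (54, -11), (55, -9)]
/-- Coordinates of an image. -/
def cJ12 : List (ℕ × ℤ) := [(12, -1), (13, -1), (14, -1), (20, -2), (21, -1), (22, -1), (23, -1), (24, 1), (26, 1), (29, -1), (31, -1), (32, 1), (33, -1), (35, -3), (37, -1), (38, -2), (39, -1), (40, -2), (41, -1), (43, -2), (44, -2), (45, -2), (46, -4), (47, -2), (48, -3), (49, -3), (50, -4), (51, -2), (52, -4), (53, -1), (54, -4), (55, -3)]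
/-- Coordinates of an image. -/
def cJ13 : List (ℕ × ℤ) := [(15, -1), (20, -1), (29, -1), (31, -1), (32, 1), (34, 1), (35, -1), (36, 1), (39, 1), (41, 1), (42, 1), (46, 1), (48, 1), (49, 2), (50, 1), (51, 1), (52, 2), (53, 2)]
/-- Coordinates of an image. -/
def cJ14 : List (ℕ × ℤ) := [(12, 2), (13, 1), (14, 1), (15, 1), (20, 2), (21, 3), (22, 3), (23, 3), (25, 1), (27, 1), (30, 1), (31, 4), (32, 1), (33, 2), (34, 2), (35, 6), (36, 2), (37, 3), (38, 6), (39, 8), (40, 10), (41, 9), (42, 8), (43, 11), (44, 8), (45, 12), (46, 18), (47, 11), (48, 10), (49, 16), (50, 26), (51, 16), (52, 17), (53, 14), (54, 16), (55, 15)]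
/-- Coordinates of an image. -/
def cJ15 : List (ℕ × ℤ) := [(13, 1), (21, 1), (22, 1), (23, 1), (29, -1), (32, 1), (33, 1), (34, 1), (35, 1), (36, 1), (37, 1), (38, 1), (39, 3), (40, 3), (41, 3), (42, 3), (43, 3), (44, 3), (45, 4), (46, 6), (47, 4), (48, 4), (49, 5), (50, 8), (51, 6), (52, 6), (53, 5), (54, 4), (55, 5)]
/-- Coordinates of an image. -/
def cJ16 : List (ℕ × ℤ) := [(16, 1), (19, 1), (21, 1), (23, 1), (29, -1), (32, -1), (33, -1), (37, -1), (43, 1), (44, -1), (47, 1), (48, 1), (49, 1), (53, 1)]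
/-- Coordinates of an image. -/
def cJ17 : List (ℕ × ℤ) := [(16, 1), (18, -1), (21, 1), (33, -1), (34, 1), (39, 1), (40, -1), (49, 1), (53, 1), (55, -1)]
/-- Coordinates of an image. -/
def cJ18 : List (ℕ × ℤ) := [(16, 1), (17, 1), (19, 1), (29, -1), (32, 1), (33, 1), (34, 2), (35, 1), (36, 1), (37, 1), (38, 2), (39, 3), (40, 3), (41, 3), (42, 3), (43, 3), (44, 2), (45, 4), (46, 5), (47, 3), (48, 3), (49, 6), (50, 8), (51, 6), (52, 6), (53, 4), (54, 4), (55, 4)]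
/-- Coordinates of an image. -/
def cJ19 : List (ℕ × ℤ) := [(16, -2), (19, -1), (21, -2), (23, -1), (31, -1), (32, 2), (33, 1), (35, -1), (36, -1), (38, -1), (39, -1), (40, -1), (41, -2), (43, -3), (44, -1), (45, -2), (46, -3), (47, -2), (48, -2), (49, -4), (50, -3), (51, -1), (52, -2), (53, -2), (54, -3), (55, -1)]
/-- Coordinates of an image. -/
def cJ20 : List (ℕ × ℤ) := [(21, -1), (22, -1), (23, -1), (32, 2), (33, 1), (34, 1), (37, 1), (39, 1), (40, 2), (41, 1), (42, 1), (43, 1), (44, 1), (45, 2), (46, 1), (47, 1), (49, 2), (50, 4), (51, 3), (52, 2), (53, 1), (54, 2), (55, 2)]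
/-- Coordinates of an image. -/
def cJ21 : List (ℕ × ℤ) := [(21, -1), (23, -1), (32, 2), (33, 1), (34, 1), (36, 1), (38, 1), (39, 1), (40, 2), (41, 1), (42, 2), (43, 1), (44, 1), (45, 2), (46, 2), (47, 1), (49, 2), (50, 4), (51, 3), (52, 2), (53, 2), (54, 1), (55, 2)]
/-- Coordinates of an image. -/
def cJ22 : List (ℕ × ℤ) := [(20, 1), (21, -1), (36, -1), (37, -1), (39, -1), (40, -2), (41, -2), (42, -1), (43, -2), (44, -2), (45, -2), (46, -3), (47, -2), (48, -1), (49, -2), (50, -5), (51, -2), (52, -2), (53, -2), (54, -3), (55, -2)]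
/-- Coordinates of an image. -/
def cJ23 : List (ℕ × ℤ) := [(21, 2), (23, 1), (35, 1), (39, 1), (40, 1), (41, 1), (42, 1), (43, 2), (44, 1), (45, 1), (46, 2), (47, 2), (48, 1), (49, 2), (50, 3), (51, 1), (52, 2), (53, 2), (54, 2), (55, 2)]
/-- Coordinates of an image. -/
def cJ24 : List (ℕ × ℤ) := [(24, 1), (26, 1), (27, 1), (30, 1), (31, 2), (35, 1), (38, 1), (39, 1), (40, 2), (41, 1), (42, 2), (43, 2), (44, 2), (45, 2), (46, 3), (47, 3), (48, 2), (49, 3), (50, 6), (51, 4), (52, 2), (53, 3), (54, 3), (55, 4)]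
/-- Coordinates of an image. -/
def cJ25 : List (ℕ × ℤ) := [(26, -1), (29, -1), (31, -1), (35, -1), (36, -1), (37, -1), (38, -1), (39, -1), (40, -2), (41, -2), (42, -1), (43, -2), (44, -2), (45, -2), (46, -3), (47, -2), (48, -2), (49, -3), (50, -5), (51, -3), (52, -3), (53, -3), (54, -3), (55, -2)]
/-- Coordinates of an image. -/
def cJ26 : List (ℕ × ℤ) := [(25, 1), (29, -1), (32, 2), (33, 1), (34, 1), (36, 1), (38, 1), (39, 2), (40, 2), (41, 2), (42, 3), (43, 2), (44, 2), (45, 3), (46, 4), (47, 2), (48, 2), (49, 5), (50, 6), (51, 4), (52, 5), (53, 5), (54, 2), (55, 4)]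
/-- Coordinates of an image. -/
def cJ27 : List (ℕ × ℤ) := [(24, -2), (25, -1), (26, -1), (27, -1), (28, -1), (29, -2), (30, -1), (31, -4), (35, -2), (36, -1), (37, -1), (38, -3), (39, -2), (40, -4), (41, -4), (42, -4), (43, -5), (44, -4), (45, -5), (46, -7), (47, -5), (48, -3), (49, -8), (50, -12), (51, -7), (52, -7), (53, -7), (54, -7), (55, -6)]
/-- Coordinates of an image. -/
def cJ28 : List (ℕ × ℤ) := [(29, -1), (30, -1), (31, -1), (35, -1), (38, -1), (40, -1), (41, -1), (43, -1), (44, -1), (45, -1), (46, -1), (47, -1), (49, -1), (50, -2), (51, -1), (54, -1), (55, -1)]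
/-- Coordinates of an image. -/
def cJ29 : List (ℕ × ℤ) := [(29, -1), (31, -1), (32, 2), (33, 1), (34, 1), (37, 1), (39, 2), (40, 2), (41, 2), (42, 2), (43, 2), (44, 2), (45, 3), (46, 3), (47, 2), (48, 1), (49, 3), (50, 5), (51, 4), (52, 3), (53, 3), (54, 2), (55, 3)]
/-- Coordinates of an image. -/
def cJ30 : List (ℕ × ℤ) := [(28, 1), (29, -1), (32, 2), (33, 1), (34, 1), (37, 1), (39, 2), (40, 2), (41, 2), (42, 3), (43, 2), (44, 2), (45, 3), (46, 4), (47, 2), (48, 2), (49, 4), (50, 6), (51, 5), (52, 5), (53, 4), (54, 2), (55, 3)]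
/-- Coordinates of an image. -/
def cJ31 : List (ℕ × ℤ) := [(29, 2), (31, 1), (35, 1), (38, 1), (50, 1), (54, 1)]
/-- Coordinates of an image. -/
def cJ32 : List (ℕ × ℤ) := [(32, -1), (33, -1), (37, -1), (39, -1), (40, -2), (41, -2), (42, -1), (43, -2), (44, -1), (45, -2), (46, -2), (47, -1), (49, -2), (50, -3), (51, -2), (52, -2), (53, -1), (54, -2), (55, -1)]
/-- Coordinates of an image. -/
def cJ33 : List (ℕ × ℤ) := [(32, 2), (33, 1), (39, 1), (40, 1), (41, 1), (42, 2), (43, 1), (44, 1), (45, 2), (46, 2), (47, 1), (49, 2), (50, 3), (51, 2), (52, 2), (53, 2), (54, 1), (55, 1)]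
/-- Coordinates of an image. -/
def cJ34 : List (ℕ × ℤ) := [(32, 2), (33, 2), (34, 1), (35, 1), (38, 1), (39, 2), (40, 2), (41, 2), (42, 2), (43, 2), (44, 2), (45, 3), (46, 3), (47, 2), (48, 2), (49, 4), (50, 6), (51, 4), (52, 4), (53, 3), (54, 3), (55, 4)]
/-- Coordinates of an image. -/
def cJ35 : List (ℕ × ℤ) := [(32, -4), (33, -2), (34, -2), (35, -1), (36, -2), (37, -2), (38, -2), (39, -4), (40, -5), (41, -5), (42, -5), (43, -5), (44, -5), (45, -7), (46, -8), (47, -5), (48, -3), (49, -9), (50, -14), (51, -9), (52, -9), (53, -8), (54, -6), (55, -7)]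
/-- Coordinates of an image. -/
def cJ36 : List (ℕ × ℤ) := [(36, -1), (38, -1), (40, -1), (41, -1), (43, -1), (44, -1), (45, -1), (46, -1), (47, -1), (48, -1), (49, -2), (50, -2), (51, -1), (52, -1), (53, -1), (54, -1), (55, -1)]
/-- Coordinates of an image. -/
def cJ37 : List (ℕ × ℤ) := [(37, -1), (39, -1), (40, -1), (41, -1), (43, -1), (44, -1), (45, -1), (46, -1), (47, -1), (49, -1), (50, -2), (51, -1), (52, -1), (54, -1), (55, -1)]
/-- Coordinates of an image. -/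
def cJ38 : List (ℕ × ℤ) := [(36, 2), (38, 1), (40, 1), (41, 1), (42, 1), (43, 1), (44, 1), (45, 1), (46, 2), (47, 1), (48, 1), (49, 2), (50, 3), (51, 1), (52, 2), (53, 2), (54, 1), (55, 1)]
/-- Coordinates of an image. -/
def cJ39 : List (ℕ × ℤ) := [(37, 2), (39, 1), (40, 1), (41, 1), (42, 1), (43, 1), (44, 1), (45, 1), (46, 2), (47, 1), (48, 1), (49, 1), (50, 3), (51, 2), (52, 2), (53, 1), (54, 2), (55, 1)]
/-- Coordinates of an image. -/
def cJ40 : List (ℕ × ℤ) := [(40, 1), (43, 1), (47, 1), (48, 1), (50, 1), (51, 1), (54, 1), (55, 1)]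
/-- Coordinates of an image. -/
def cJ41 : List (ℕ × ℤ) := [(40, 1), (42, -1), (44, -1), (46, -1), (49, -1), (52, -1), (53, -1), (54, 1)]
/-- Coordinates of an image. -/
def cJ42 : List (ℕ × ℤ) := [(40, 1), (41, 1), (43, 1), (44, -1), (48, 1), (50, 1), (51, 1), (52, 1), (54, 2), (55, 1)]
/-- Coordinates of an image. -/
def cJ43 : List (ℕ × ℤ) := [(40, -2), (43, -1), (45, -1), (47, -1), (50, -1), (51, -1), (54, -1), (55, -1)]
/-- Coordinates of an image. -/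
def cJ44 : List (ℕ × ℤ) := [(44, -1), (45, -1), (46, -1), (49, -1), (53, -1)]
/-- Coordinates of an image. -/
def cJ45 : List (ℕ × ℤ) := [(47, -1)]
/-- Coordinates of an image. -/
def cJ46 : List (ℕ × ℤ) := [(44, 2), (45, 1), (46, 1), (47, 1), (49, 1), (50, 1), (53, 1), (55, 1)]
/-- Coordinates of an image. -/
def cJ47 : List (ℕ × ℤ) := [(45, 1)]
/-- Coordinates of an image. -/
def cJ48 : List (ℕ × ℤ) := [(48, 1), (50, 1), (51, 1), (54, 1), (55, 1)]
/-- Coordinates of an image. -/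
def cJ49 : List (ℕ × ℤ) := [(50, -1)]
/-- Coordinates of an image. -/
def cJ50 : List (ℕ × ℤ) := [(49, 1)]
/-- Coordinates of an image. -/
def cJ51 : List (ℕ × ℤ) := [(48, -2), (49, -1), (50, -1), (51, -1), (52, -1), (53, -1), (54, -1), (55, -1)]
/-- Coordinates of an image. -/
def cJ52 : List (ℕ × ℤ) := [(54, -1)]
/-- Coordinates of an image. -/
def cJ53 : List (ℕ × ℤ) := [(55, -1)]
/-- Coordinates of an image. -/
def cJ54 : List (ℕ × ℤ) := [(52, 1)]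
/-- Coordinates of an image. -/
def cJ55 : List (ℕ × ℤ) := [(53, 1)]

/-- Coordinates of an image. -/
def cJ : List (List (ℕ × ℤ)) :=
  [cJ0, cJ1, cJ2, cJ3, cJ4, cJ5, cJ6, cJ7, cJ8, cJ9, cJ10, cJ11, cJ12, cJ13, cJ14, cJ15, cJ16, cJ17, cJ18, cJ19, cJ20, cJ21, cJ22, cJ23, cJ24, cJ25, cJ26, cJ27, cJ28, cJ29, cJ30, cJ31, cJ32, cJ33, cJ34, cJ35, cJ36, cJ37, cJ38, cJ39, cJ40, cJ41, cJ42, cJ43, cJ44, cJ45, cJ46, cJ47, cJ48, cJ49, cJ50, cJ51, cJ52, cJ53, cJ54, cJ55]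

/-- Coordinates of an image. -/
def cK0 : List (ℕ × ℤ) := [(3, 1), (5, 1), (7, 1), (11, 1), (14, 1), (18, 1), (19, 2), (20, 2), (21, 2), (22, 3), (23, 4), (26, 1), (30, 1), (31, 2), (33, 2), (35, 6), (36, 2), (37, 2), (38, 5), (39, 6), (40, 9), (41, 8), (42, 9), (43, 12), (44, 9), (45, 13), (46, 18), (47, 13), (48, 10), (49, 15), (50, 25), (51, 16), (52, 15), (53, 15), (54, 15), (55, 14)]
/-- Coordinates of an image. -/
def cK1 : List (ℕ × ℤ) := [(3, 1), (4, -1), (8, 1), (10, 1), (11, 1), (14, 1), (15, 1), (17, -1), (18, 1), (20, 1), (21, 2), (22, 3), (23, 3), (24, 1), (25, 1), (26, 2), (27, 2), (28, 2), (29, 1), (31, 6), (32, 1), (33, 1), (34, -1), (35, 4), (36, 3), (37, 2), (38, 4), (39, 6), (40, 11), (41, 8), (42, 11), (43, 12), (44, 10), (45, 13), (46, 19), (47, 15), (48, 11), (49, 17), (50, 30), (51, 19), (52, 17), (53, 19), (54, 16), (55, 17)]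
/-- Coordinates of an image. -/
def cK2 : List (ℕ × ℤ) := [(3, 1), (6, 1), (7, 1), (8, 1), (11, 1), (13, 1), (14, 1), (15, 1), (16, 1), (17, -1), (18, 1), (19, 2), (20, 3), (21, 4), (22, 4), (23, 6), (24, 1), (25, 1), (26, 2), (27, 1), (28, 2), (29, 1), (30, 1), (31, 8), (32, 1), (33, 3), (34, 1), (35, 9), (36, 3), (37, 4), (38, 9), (39, 11), (40, 17), (41, 15), (42, 17), (43, 22), (44, 16), (45, 23), (46, 31), (47, 24), (48, 16), (49, 28), (50, 46), (51, 29), (52, 28), (53, 27), (54, 25), (55, 25)]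
/-- Coordinates of an image. -/
def cK3 : List (ℕ × ℤ) := [(3, 1), (7, 1), (10, 1), (11, 1), (14, 1), (15, 1), (16, 1), (18, 1), (19, 1), (20, 2), (21, 3), (22, 3), (23, 4), (25, 1), (26, 1), (28, 1), (31, 4), (33, 2), (35, 5), (36, 2), (37, 3), (38, 5), (39, 8), (40, 11), (41, 10), (42, 11), (43, 15), (44, 10), (45, 15), (46, 21), (47, 16), (48, 12), (49, 18), (50, 30), (51, 20), (52, 19), (53, 18), (54, 18), (55, 17)]
/-- Coordinates of an image. -/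
def cK4 : List (ℕ × ℤ) := [(1, 1), (3, 1), (7, 1), (8, 1), (11, 1), (13, 1), (14, 1), (15, 1), (16, 1), (17, -1), (19, 1), (20, 3), (21, 4), (22, 4), (23, 5), (25, 1), (26, 2), (27, 2), (28, 1), (29, 1), (30, 1), (31, 7), (32, 1), (33, 3), (34, 2), (35, 9), (36, 3), (37, 4), (38, 9), (39, 12), (40, 15), (41, 13), (42, 13), (43, 18), (44, 15), (45, 20), (46, 28), (47, 20), (48, 15), (49, 26), (50, 40), (51, 26), (52, 26), (53, 24), (54, 23), (55, 24)]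
/-- Coordinates of an image. -/
def cK5 : List (ℕ × ℤ) := [(0, -1), (3, 1), (10, 1), (14, 1), (17, -1), (18, 1), (21, 1), (22, 1), (23, 1), (25, 1), (26, 1), (31, 2), (32, 1), (34, -1), (35, 1), (36, 2), (37, 1), (38, 1), (39, 2), (40, 5), (41, 3), (42, 6), (43, 6), (44, 4), (45, 5), (46, 9), (47, 7), (48, 4), (49, 6), (50, 12), (51, 8), (52, 7), (53, 9), (54, 5), (55, 6)]
/-- Coordinates of an image. -/
def cK6 : List (ℕ × ℤ) := [(2, -1), (3, 1), (8, 1), (10, 1), (11, 1), (14, 1), (15, 1), (17, -1), (20, 1), (21, 2), (22, 2), (23, 2), (26, 1), (27, 2), (28, 1), (31, 4), (32, 1), (33, 1), (35, 3), (36, 2), (37, 2), (38, 3), (39, 5), (40, 8), (41, 5), (42, 6), (43, 8), (44, 7), (45, 9), (46, 11), (47, 10), (48, 7), (49, 12), (50, 19), (51, 12), (52, 11), (53, 12), (54, 11), (55, 13)]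
/-- Coordinates of an image. -/
def cK7 : List (ℕ × ℤ) := [(3, -2), (7, -1), (14, -1), (15, -1), (16, 1), (17, -1), (18, 1), (20, -2), (21, -2), (22, -2), (23, -2), (25, -1), (26, -1), (30, -1), (31, -1), (32, 1), (33, -1), (34, 1), (35, -3), (36, 1), (37, -1), (38, -2), (39, -3), (40, -3), (41, -4), (42, -4), (43, -5), (44, -3), (45, -4), (46, -9), (47, -6), (48, -6), (49, -6), (50, -9), (51, -7), (52, -9), (53, -6), (54, -9), (55, -7)]
/-- Coordinates of an image. -/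
def cK8 : List (ℕ × ℤ) := [(8, 1), (11, 1), (13, 1), (16, 1), (17, -1), (18, 1), (19, 1), (20, 1), (21, 2), (22, 2), (23, 3), (24, 1), (26, 1), (27, 2), (28, 1), (29, 1), (31, 5), (32, 1), (33, 1), (34, 1), (35, 4), (36, 2), (37, 2), (38, 5), (39, 6), (40, 9), (41, 7), (42, 7), (43, 10), (44, 8), (45, 12), (46, 14), (47, 12), (48, 8), (49, 15), (50, 24), (51, 15), (52, 13), (53, 14), (54, 13), (55, 14)]
/-- Coordinates of an image. -/
def cK9 : List (ℕ × ℤ) := [(8, 1), (10, 1), (11, 1), (12, -1), (16, 1), (17, -1), (18, 1), (21, 1), (22, 1), (23, 2), (26, 1), (28, 1), (30, -1), (31, 2), (35, 1), (36, 2), (37, 1), (38, 1), (39, 2), (40, 5), (41, 3), (42, 3), (43, 5), (44, 4), (45, 6), (46, 6), (47, 7), (48, 5), (49, 7), (50, 11), (51, 8), (52, 6), (53, 8), (54, 5), (55, 7)]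
/-- Coordinates of an image. -/
def cK10 : List (ℕ × ℤ) := [(10, 1), (11, 1), (14, 1), (19, 1), (20, 1), (21, 1), (22, 1), (23, 2), (27, 1), (28, 1), (31, 2), (32, 1), (33, 1), (34, 1), (35, 3), (36, 1), (37, 2), (38, 3), (39, 4), (40, 6), (41, 4), (42, 4), (43, 6), (44, 5), (45, 7), (46, 8), (47, 7), (48, 6), (49, 10), (50, 15), (51, 10), (52, 9), (53, 8), (54, 9), (55, 9)]
/-- Coordinates of an image. -/
def cK11 : List (ℕ × ℤ) := [(15, 1), (16, 1), (17, -1), (18, 1), (21, 1), (22, 1), (23, 1), (27, 1), (31, 2), (32, 1), (33, 1), (35, 1), (36, 2), (37, 1), (38, 2), (39, 3), (40, 5), (41, 4), (42, 4), (43, 6), (44, 4), (45, 6), (46, 8), (47, 6), (48, 4), (49, 7), (50, 13), (51, 8), (52, 6), (53, 7), (54, 6), (55, 7)]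
/-- Coordinates of an image. -/
def cK12 : List (ℕ × ℤ) := [(8, 1), (9, 1), (10, 1), (11, 2), (13, 1), (14, 1), (15, 1), (16, 1), (17, -1), (18, 1), (20, 3), (21, 4), (22, 4), (23, 5), (24, 1), (25, 1), (26, 2), (27, 3), (28, 2), (29, 1), (30, 1), (31, 9), (32, 1), (33, 3), (34, 1), (35, 9), (36, 3), (37, 4), (38, 9), (39, 12), (40, 17), (41, 13), (42, 15), (43, 19), (44, 15), (45, 21), (46, 28), (47, 23), (48, 16), (49, 27), (50, 45), (51, 29), (52, 27), (53, 26), (54, 24), (55, 27)]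
/-- Coordinates of an image. -/
def cK13 : List (ℕ × ℤ) := [(8, -2), (11, -1), (13, -1), (15, -1), (16, 1), (17, -1), (18, 1), (20, -3), (21, -2), (22, -2), (23, -3), (26, -1), (28, -1), (29, -1), (31, -3), (32, 1), (33, -1), (35, -5), (36, 1), (37, -2), (38, -3), (39, -3), (40, -6), (41, -3), (42, -2), (43, -4), (44, -4), (45, -6), (46, -6), (47, -6), (48, -7), (49, -8), (50, -13), (51, -9), (52, -10), (53, -6), (54, -10), (55, -9)]
/-- Coordinates of an image. -/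
def cK14 : List (ℕ × ℤ) := [(10, -2), (11, -1), (14, -1), (15, -1), (16, 1), (17, -1), (18, 1), (20, -2), (21, -1), (22, -1), (23, -2), (25, -1), (28, -1), (31, -2), (32, 1), (33, -1), (35, -3), (36, 1), (37, -2), (38, -2), (39, -3), (40, -5), (41, -2), (42, -1), (43, -3), (44, -3), (45, -4), (46, -4), (47, -5), (48, -6), (49, -6), (50, -9), (51, -7), (52, -7), (53, -4), (54, -8), (55, -8)]
/-- Coordinates of an image. -/
def cK15 : List (ℕ × ℤ) := [(11, -1), (16, 1), (17, -1), (18, 1), (20, -1), (27, 1), (31, 1), (32, 1), (35, -1), (36, 2), (38, 1), (39, 1), (40, 1), (41, 2), (42, 2), (43, 2), (44, 2), (45, 2), (46, 4), (47, 2), (49, 3), (50, 5), (51, 2), (52, 1), (53, 3), (55, 1)]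
/-- Coordinates of an image. -/
def cK16 : List (ℕ × ℤ) := [(16, 1), (21, 1), (27, 1), (31, 1), (32, 1), (34, 1), (35, 1), (36, 1), (37, 1), (38, 1), (39, 3), (40, 3), (41, 2), (42, 3), (43, 4), (44, 3), (45, 4), (46, 5), (47, 4), (48, 2), (49, 6), (50, 8), (51, 5), (52, 5), (53, 5), (54, 4), (55, 4)]
/-- Coordinates of an image. -/
def cK17 : List (ℕ × ℤ) := [(17, -1), (19, -1), (20, -1), (23, -1), (32, 1), (35, -1), (36, 1), (38, -1), (42, 1), (44, 1), (46, 1), (47, 1), (48, -1), (49, -1), (50, 1), (53, 1), (54, -2)]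
/-- Coordinates of an image. -/
def cK18 : List (ℕ × ℤ) := [(18, 1), (19, 1), (22, 1), (23, 1), (27, 1), (31, 1), (35, 1), (36, 1), (38, 2), (39, 1), (40, 2), (41, 2), (42, 3), (43, 3), (44, 2), (45, 3), (46, 4), (47, 3), (48, 2), (49, 4), (50, 7), (51, 4), (52, 3), (53, 4), (54, 3), (55, 3)]
/-- Coordinates of an image. -/
def cK19 : List (ℕ × ℤ) := [(19, 1), (23, 1), (34, 1), (35, 1), (38, 1), (40, 1), (44, 1), (45, 1), (47, 1), (48, 1), (49, 2), (50, 2), (51, 1), (52, 1), (53, 1), (54, 1), (55, 2)]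
/-- Coordinates of an image. -/
def cK20 : List (ℕ × ℤ) := [(17, 2), (19, 2), (20, 1), (23, 1), (33, 1), (34, 2), (35, 3), (37, 1), (38, 3), (39, 2), (40, 3), (41, 3), (42, 2), (43, 3), (44, 2), (45, 4), (46, 4), (47, 2), (48, 3), (49, 6), (50, 8), (51, 5), (52, 7), (53, 3), (54, 6), (55, 4)]
/-- Coordinates of an image. -/
def cK21 : List (ℕ × ℤ) := [(16, -2), (21, -1), (31, -1), (34, -1), (36, -1), (37, -1), (38, -1), (39, -3), (40, -2), (41, -3), (42, -1), (43, -3), (44, -2), (45, -4), (46, -5), (47, -3), (48, -1), (49, -5), (50, -5), (51, -3), (52, -3), (53, -3), (54, -3), (55, -2)]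
/-- Coordinates of an image. -/
def cK22 : List (ℕ × ℤ) := [(18, -2), (22, -1), (23, -1), (31, -1), (33, -1), (34, 1), (36, -1), (38, -1), (39, -1), (40, -2), (41, -3), (42, -2), (43, -3), (44, -1), (45, -3), (46, -5), (47, -2), (48, -2), (49, -2), (50, -6), (51, -3), (52, -3), (53, -3), (54, -3), (55, -3)]
/-- Coordinates of an image. -/
def cK23 : List (ℕ × ℤ) := [(19, -2), (23, -1), (35, -1), (38, -1), (40, -1), (41, -1), (42, -1), (43, -1), (44, -1), (45, -2), (46, -1), (47, -1), (48, -1), (49, -2), (50, -3), (51, -1), (52, -1), (53, -2), (54, -2), (55, -1)]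
/-- Coordinates of an image. -/
def cK24 : List (ℕ × ℤ) := [(24, 1), (26, 1), (27, 1), (28, 1), (29, 1), (31, 2), (35, 1), (38, 1), (39, 1), (40, 2), (41, 1), (42, 1), (43, 2), (44, 2), (45, 2), (46, 2), (47, 2), (48, 2), (49, 4), (50, 6), (51, 4), (52, 3), (53, 3), (54, 3), (55, 3)]
/-- Coordinates of an image. -/
def cK25 : List (ℕ × ℤ) := [(27, 1), (28, -1), (34, 1), (35, 1), (38, 1), (39, 1), (40, -1), (41, -1), (43, -1), (45, -1), (46, -1), (50, -1), (55, 1)]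
/-- Coordinates of an image. -/
def cK26 : List (ℕ × ℤ) := [(27, 1), (30, 1), (31, 1), (35, 1), (38, 1), (42, 1), (44, 1), (46, 1), (47, 1), (48, 1), (49, 1), (50, 2), (51, 1), (52, 1), (53, 1), (54, 1), (55, 1)]
/-- Coordinates of an image. -/
def cK27 : List (ℕ × ℤ) := [(27, 1), (31, 1), (34, 1), (35, 1), (38, 1), (39, 1), (49, 1), (50, 1), (51, 1), (52, 1), (55, 1)]
/-- Coordinates of an image. -/
def cK28 : List (ℕ × ℤ) := [(25, 1), (27, 1), (31, 1), (38, 1), (39, 1), (42, 1), (44, 1), (46, 1), (47, 1), (49, 1), (50, 1), (52, 1), (53, 1), (55, 1)]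
/-- Coordinates of an image. -/
def cK29 : List (ℕ × ℤ) := [(24, -2), (25, -1), (26, -1), (28, -1), (29, -1), (30, -1), (31, -3), (34, 1), (35, -1), (38, -1), (39, -1), (40, -3), (41, -3), (42, -3), (43, -4), (44, -3), (45, -4), (46, -5), (47, -4), (48, -2), (49, -5), (50, -8), (51, -5), (52, -4), (53, -5), (54, -5), (55, -4)]
/-- Coordinates of an image. -/
def cK30 : List (ℕ × ℤ) := [(26, -1), (27, 1), (34, 1), (38, 1), (40, -1), (41, -1), (43, -1), (45, -1), (46, -1), (48, -1), (50, -1), (51, -1), (52, -1), (53, -1), (54, -1)]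
/-- Coordinates of an image. -/
def cK31 : List (ℕ × ℤ) := [(27, -2), (31, -1), (38, -1), (39, -1), (49, -1), (50, -1), (54, -1), (55, -1)]
/-- Coordinates of an image. -/
def cK32 : List (ℕ × ℤ) := [(32, 1), (36, 1), (37, 1), (39, 1), (40, 2), (41, 1), (42, 1), (43, 1), (44, 2), (45, 2), (46, 2), (47, 2), (48, 2), (49, 3), (50, 5), (51, 3), (52, 3), (53, 3), (54, 2), (55, 2)]
/-- Coordinates of an image. -/
def cK33 : List (ℕ × ℤ) := [(34, 1), (35, 1), (36, -1), (40, -1), (41, -1), (43, -1), (45, -1), (46, -1), (48, -1), (49, -1), (50, -2), (52, -1), (53, -1), (54, -1)]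
/-- Coordinates of an image. -/
def cK34 : List (ℕ × ℤ) := [(34, 1), (35, 1), (38, 1), (51, 1), (52, 1)]
/-- Coordinates of an image. -/
def cK35 : List (ℕ × ℤ) := [(39, 1)]
/-- Coordinates of an image. -/
def cK36 : List (ℕ × ℤ) := [(33, 1), (34, 1), (35, 1), (38, 1), (39, 1), (42, 1), (44, 1), (46, 1), (47, 1), (48, 1), (49, 1), (50, 1), (51, 1), (52, 2), (53, 1), (55, 2)]
/-- Coordinates of an image. -/
def cK37 : List (ℕ × ℤ) := [(32, -2), (33, -1), (34, -1), (36, -1), (37, -1), (38, -1), (39, -2), (40, -3), (41, -3), (42, -2), (43, -3), (44, -2), (45, -4), (46, -4), (47, -2), (48, -2), (49, -5), (50, -7), (51, -5), (52, -5), (53, -4), (54, -4), (55, -4)]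
/-- Coordinates of an image. -/
def cK38 : List (ℕ × ℤ) := [(34, -2), (35, -1), (38, -1), (39, -1), (49, -1), (51, -1), (52, -1), (55, -1)]
/-- Coordinates of an image. -/
def cK39 : List (ℕ × ℤ) := [(35, -1)]
/-- Coordinates of an image. -/
def cK40 : List (ℕ × ℤ) := [(40, 1), (43, 1), (45, 1), (50, 1), (51, 1)]
/-- Coordinates of an image. -/
def cK41 : List (ℕ × ℤ) := [(40, 1), (42, 1), (43, 1), (44, -1), (49, -1), (50, 1), (51, 1), (52, 1)]
/-- Coordinates of an image. -/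
def cK42 : List (ℕ × ℤ) := [(42, 1), (43, 1), (46, 1), (48, 1), (50, 1), (51, 1), (52, 1), (53, 1)]
/-- Coordinates of an image. -/
def cK43 : List (ℕ × ℤ) := [(47, 1)]
/-- Coordinates of an image. -/
def cK44 : List (ℕ × ℤ) := [(40, 1), (41, 1), (42, 1), (43, 2), (45, 1), (46, 1), (47, 1), (48, 1), (49, 1), (50, 2), (51, 2), (52, 2), (53, 1), (54, 1), (55, 1)]
/-- Coordinates of an image. -/
def cK45 : List (ℕ × ℤ) := [(40, -2), (43, -1), (45, -1), (47, -1), (50, -1), (51, -1), (54, -1), (55, -1)]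
/-- Coordinates of an image. -/
def cK46 : List (ℕ × ℤ) := [(42, -2), (43, -1), (46, -1), (47, -1), (50, -1), (51, -1), (52, -1), (53, -1)]
/-- Coordinates of an image. -/
def cK47 : List (ℕ × ℤ) := [(43, -1)]
/-- Coordinates of an image. -/
def cK48 : List (ℕ × ℤ) := [(48, 1), (50, 1), (51, 1), (52, 1), (53, 1)]
/-- Coordinates of an image. -/
def cK49 : List (ℕ × ℤ) := [(52, -1)]
/-- Coordinates of an image. -/
def cK50 : List (ℕ × ℤ) := [(54, 1)]
/-- Coordinates of an image. -/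
def cK51 : List (ℕ × ℤ) := [(55, 1)]
/-- Coordinates of an image. -/
def cK52 : List (ℕ × ℤ) := [(49, 1)]
/-- Coordinates of an image. -/
def cK53 : List (ℕ × ℤ) := [(48, -2), (49, -1), (50, -1), (51, -1), (52, -1), (53, -1), (54, -1), (55, -1)]
/-- Coordinates of an image. -/
def cK54 : List (ℕ × ℤ) := [(50, -1)]
/-- Coordinates of an image. -/
def cK55 : List (ℕ × ℤ) := [(51, -1)]

/-- Coordinates of an image. -/
def cK : List (List (ℕ × ℤ)) :=
  [cK0, cK1, cK2, cK3, cK4, cK5, cK6, cK7, cK8, cK9, cK10, cK11, cK12, cK13, cK14, cK15, cK16, cK17, cK18, cK19, cK20, cK21, cK22, cK23, cK24, cK25, cK26, cK27, cK28, cK29, cK30, cK31, cK32, cK33, cK34, cK35, cK36, cK37, cK38, cK39, cK40, cK41, cK42, cK43, cK44, cK45, cK46, cK47, cK48, cK49, cK50, cK51, cK52, cK53, cK54, cK55]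

/-- Coordinates of an image. -/
def cSign0 : List (ℕ × ℤ) := [(0, -1), (11, -1), (15, -1), (20, -1), (21, -1), (22, -2), (23, -2), (31, -1), (33, -2), (34, -1), (35, -3), (37, -1), (38, -2), (39, -4), (40, -4), (41, -3), (42, -3), (43, -4), (44, -3), (45, -5), (46, -6), (47, -5), (48, -4), (49, -5), (50, -9), (51, -7), (52, -6), (53, -5), (54, -6), (55, -7)]
/-- Coordinates of an image. -/
def cSign1 : List (ℕ × ℤ) := [(1, -1), (13, -1), (14, -1), (20, -2), (21, -1), (22, -2), (23, -2), (31, -1), (33, -2), (34, -1), (35, -4), (36, -1), (37, -2), (38, -3), (39, -4), (40, -5), (41, -4), (42, -4), (43, -6), (44, -4), (45, -6), (46, -9), (47, -6), (48, -5), (49, -7), (50, -11), (51, -8), (52, -9), (53, -6), (54, -7), (55, -7)]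
/-- Coordinates of an image. -/
def cSign2 : List (ℕ × ℤ) := [(2, -1), (11, -1), (13, -1), (19, -1), (20, -2), (21, -2), (22, -2), (23, -4), (31, -1), (33, -1), (35, -3), (37, -2), (38, -3), (39, -3), (40, -5), (41, -4), (42, -4), (43, -6), (44, -4), (45, -7), (46, -8), (47, -7), (48, -5), (49, -7), (50, -12), (51, -8), (52, -8), (53, -7), (54, -8), (55, -7)]
/-- Coordinates of an image. -/
def cSign3 : List (ℕ × ℤ) := [(3, -1), (14, -1), (15, -1), (19, -1), (20, -1), (21, -2), (22, -2), (23, -2), (31, -1), (33, -1), (35, -3), (36, -1), (37, -1), (38, -2), (39, -3), (40, -5), (41, -4), (42, -4), (43, -6), (44, -4), (45, -6), (46, -8), (47, -6), (48, -5), (49, -7), (50, -12), (51, -7), (52, -7), (53, -7), (54, -8), (55, -7)]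
/-- Coordinates of an image. -/
def cSign4 : List (ℕ × ℤ) := [(4, -1), (13, -1), (15, -1), (19, -1), (20, -2), (21, -2), (22, -1), (23, -3), (31, -1), (33, -2), (34, -1), (35, -4), (37, -2), (38, -4), (39, -4), (40, -5), (41, -4), (42, -4), (43, -6), (44, -4), (45, -6), (46, -8), (47, -6), (48, -5), (49, -7), (50, -12), (51, -8), (52, -9), (53, -6), (54, -8), (55, -8)]
/-- Coordinates of an image. -/
def cSign5 : List (ℕ × ℤ) := [(5, -1), (11, -1), (14, -1), (19, -1), (20, -2), (21, -1), (22, -2), (23, -2), (31, -1), (33, -1), (34, -1), (35, -4), (36, -1), (37, -2), (38, -3), (39, -4), (40, -5), (41, -4), (42, -4), (43, -6), (44, -4), (45, -7), (46, -8), (47, -6), (48, -5), (49, -8), (50, -12), (51, -8), (52, -8), (53, -7), (54, -8), (55, -7)]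
/-- Coordinates of an image. -/
def cSign6 : List (ℕ × ℤ) := [(6, -1), (11, -1), (13, -1), (14, -1), (15, -1), (20, -3), (21, -2), (22, -2), (23, -3), (31, -2), (33, -2), (35, -5), (36, -1), (37, -3), (38, -3), (39, -4), (40, -7), (41, -5), (42, -5), (43, -8), (44, -5), (45, -8), (46, -11), (47, -8), (48, -7), (49, -9), (50, -16), (51, -11), (52, -11), (53, -8), (54, -11), (55, -10)]
/-- Coordinates of an image. -/
def cSign7 : List (ℕ × ℤ) := [(7, -1), (20, -1), (21, -1), (22, -1), (23, -2), (33, -1), (35, -1), (37, -1), (38, -2), (39, -3), (40, -2), (41, -2), (42, -2), (43, -3), (44, -2), (45, -3), (46, -4), (47, -3), (48, -2), (49, -3), (50, -5), (51, -3), (52, -4), (53, -3), (54, -3), (55, -3)]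
/-- Coordinates of an image. -/
def cSign8 : List (ℕ × ℤ) := [(8, 1), (26, 1), (27, 1), (28, 1), (29, 1), (31, 3), (35, 1), (38, 1), (39, 1), (40, 2), (41, 1), (42, 1), (43, 1), (44, 2), (45, 2), (46, 2), (47, 2), (48, 2), (49, 4), (50, 6), (51, 3), (52, 3), (53, 3), (54, 3), (55, 3)]
/-- Coordinates of an image. -/
def cSign9 : List (ℕ × ℤ) := [(9, 1), (26, 1), (27, 1), (30, 1), (31, 1), (35, 1), (38, 1), (39, 1), (40, 1), (41, 1), (42, 2), (43, 1), (44, 1), (45, 1), (46, 2), (47, 2), (48, 1), (49, 2), (50, 4), (51, 3), (52, 3), (53, 3), (54, 1), (55, 2)]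
/-- Coordinates of an image. -/
def cSign10 : List (ℕ × ℤ) := [(10, 1), (25, 1), (27, 1), (28, 1), (31, 2), (38, 1), (39, 1), (40, 2), (41, 1), (42, 1), (43, 1), (44, 2), (45, 2), (46, 2), (47, 3), (48, 2), (49, 4), (50, 5), (51, 3), (52, 3), (53, 3), (54, 2), (55, 4)]
/-- Coordinates of an image. -/
def cSign11 : List (ℕ × ℤ) := [(11, 1), (31, 1), (40, 1), (45, 1), (47, 1), (48, 1), (49, 1), (50, 2), (51, 2), (53, 1), (54, 2), (55, 2)]
/-- Coordinates of an image. -/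
def cSign12 : List (ℕ × ℤ) := [(12, 1), (25, 1), (27, 1), (29, 1), (30, 1), (31, 3), (35, 1), (38, 2), (39, 1), (40, 1), (41, 2), (42, 1), (43, 1), (44, 2), (45, 2), (46, 4), (47, 1), (48, 2), (49, 4), (50, 6), (51, 2), (52, 3), (53, 3), (54, 4), (55, 3)]
/-- Coordinates of an image. -/
def cSign13 : List (ℕ × ℤ) := [(13, 1), (31, 1), (40, 1), (46, 1), (47, 1), (48, 1), (50, 1), (51, 2), (52, 1), (54, 1), (55, 1)]
/-- Coordinates of an image. -/
def cSign14 : List (ℕ × ℤ) := [(14, 1), (31, 1), (40, 1), (43, 1), (46, 1), (48, 1), (49, 1), (50, 1), (51, 1), (54, 2), (55, 1)]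
/-- Coordinates of an image. -/
def cSign15 : List (ℕ × ℤ) := [(15, 1), (31, 1), (40, 1), (48, 1), (50, 2), (51, 2), (54, 2), (55, 2)]
/-- Coordinates of an image. -/
def cSign16 : List (ℕ × ℤ) := [(16, 1), (31, 1), (41, 1), (43, 1), (44, 1), (45, 2), (46, 2), (47, 1), (49, 2), (50, 1), (51, 1), (53, 1)]
/-- Coordinates of an image. -/
def cSign17 : List (ℕ × ℤ) := [(17, 1), (41, 1), (46, 1), (48, 1), (49, 2), (50, 2), (51, 1), (52, 2), (54, 2)]
/-- Coordinates of an image. -/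
def cSign18 : List (ℕ × ℤ) := [(18, 1), (31, 1), (40, 1), (41, 1), (42, 1), (43, 2), (45, 1), (46, 2), (47, 1), (48, 1), (49, 1), (50, 3), (51, 2), (52, 1), (53, 1), (54, 2), (55, 2)]
/-- Coordinates of an image. -/
def cSign19 : List (ℕ × ℤ) := [(19, 1), (40, 1), (41, 1), (42, 1), (43, 1), (44, 1), (45, 2), (46, 1), (47, 1), (48, 1), (49, 2), (50, 3), (51, 1), (52, 1), (53, 2), (54, 2), (55, 1)]
/-- Coordinates of an image. -/
def cSign20 : List (ℕ × ℤ) := [(20, 1), (43, 1), (45, 1), (49, 1), (52, 1)]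
/-- Coordinates of an image. -/
def cSign21 : List (ℕ × ℤ) := [(21, 1), (40, 1), (41, 1), (42, 1), (43, 2), (44, 1), (45, 1), (46, 2), (47, 2), (48, 1), (49, 2), (50, 3), (51, 1), (52, 2), (53, 2), (54, 2), (55, 2)]
/-- Coordinates of an image. -/
def cSign22 : List (ℕ × ℤ) := [(22, 1), (40, 1), (41, 1), (42, 1), (43, 1), (44, 1), (45, 2), (46, 2), (47, 2), (48, 1), (49, 1), (50, 2), (51, 2), (52, 1), (53, 2), (54, 1), (55, 1)]
/-- Coordinates of an image. -/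
def cSign23 : List (ℕ × ℤ) := [(23, 1)]
/-- Coordinates of an image. -/
def cSign24 : List (ℕ × ℤ) := [(24, -1)]
/-- Coordinates of an image. -/
def cSign25 : List (ℕ × ℤ) := [(25, -1), (38, -1), (39, -1)]
/-- Coordinates of an image. -/
def cSign26 : List (ℕ × ℤ) := [(26, -1), (35, -1), (39, -1)]
/-- Coordinates of an image. -/
def cSign27 : List (ℕ × ℤ) := [(27, -1), (38, -1), (39, -1)]
/-- Coordinates of an image. -/
def cSign28 : List (ℕ × ℤ) := [(28, -1)]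
/-- Coordinates of an image. -/
def cSign29 : List (ℕ × ℤ) := [(29, -1), (35, -1), (38, -1)]
/-- Coordinates of an image. -/
def cSign30 : List (ℕ × ℤ) := [(30, -1), (35, -1), (38, -1)]
/-- Coordinates of an image. -/
def cSign31 : List (ℕ × ℤ) := [(31, -1)]
/-- Coordinates of an image. -/
def cSign32 : List (ℕ × ℤ) := [(32, 1), (40, 1), (41, 1), (42, 1), (43, 1), (44, 1), (45, 2), (46, 1), (47, 1), (49, 2), (50, 3), (51, 2), (52, 1), (53, 2), (54, 1), (55, 1)]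
/-- Coordinates of an image. -/
def cSign33 : List (ℕ × ℤ) := [(33, 1), (40, 1), (41, 1), (42, 1), (43, 1), (44, 1), (45, 1), (46, 2), (47, 1), (48, 1), (49, 1), (50, 2), (51, 1), (52, 2), (53, 1), (54, 1), (55, 2)]
/-- Coordinates of an image. -/
def cSign34 : List (ℕ × ℤ) := [(34, 1), (49, 1), (51, 1), (52, 1), (55, 1)]
/-- Coordinates of an image. -/
def cSign35 : List (ℕ × ℤ) := [(35, 1)]
/-- Coordinates of an image. -/
def cSign36 : List (ℕ × ℤ) := [(36, 1), (40, 1), (41, 1), (42, 1), (43, 1), (44, 1), (45, 1), (46, 2), (47, 1), (48, 1), (49, 2), (50, 3), (51, 1), (52, 2), (53, 2), (54, 1), (55, 1)]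
/-- Coordinates of an image. -/
def cSign37 : List (ℕ × ℤ) := [(37, 1), (40, 1), (41, 1), (42, 1), (43, 1), (44, 1), (45, 1), (46, 2), (47, 1), (48, 1), (49, 1), (50, 3), (51, 2), (52, 2), (53, 1), (54, 2), (55, 1)]
/-- Coordinates of an image. -/
def cSign38 : List (ℕ × ℤ) := [(38, 1)]
/-- Coordinates of an image. -/
def cSign39 : List (ℕ × ℤ) := [(39, 1)]
/-- Coordinates of an image. -/
def cSign40 : List (ℕ × ℤ) := [(40, -1)]
/-- Coordinates of an image. -/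
def cSign41 : List (ℕ × ℤ) := [(41, -1)]
/-- Coordinates of an image. -/
def cSign42 : List (ℕ × ℤ) := [(42, -1)]
/-- Coordinates of an image. -/
def cSign43 : List (ℕ × ℤ) := [(43, -1)]
/-- Coordinates of an image. -/
def cSign44 : List (ℕ × ℤ) := [(44, -1)]
/-- Coordinates of an image. -/
def cSign45 : List (ℕ × ℤ) := [(45, -1)]
/-- Coordinates of an image. -/
def cSign46 : List (ℕ × ℤ) := [(46, -1)]
/-- Coordinates of an image. -/
def cSign47 : List (ℕ × ℤ) := [(47, -1)]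
/-- Coordinates of an image. -/
def cSign48 : List (ℕ × ℤ) := [(48, -1)]
/-- Coordinates of an image. -/
def cSign49 : List (ℕ × ℤ) := [(49, -1)]
/-- Coordinates of an image. -/
def cSign50 : List (ℕ × ℤ) := [(50, -1)]
/-- Coordinates of an image. -/
def cSign51 : List (ℕ × ℤ) := [(51, -1)]
/-- Coordinates of an image. -/
def cSign52 : List (ℕ × ℤ) := [(52, -1)]
/-- Coordinates of an image. -/
def cSign53 : List (ℕ × ℤ) := [(53, -1)]
/-- Coordinates of an image. -/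
def cSign54 : List (ℕ × ℤ) := [(54, -1)]
/-- Coordinates of an image. -/
def cSign55 : List (ℕ × ℤ) := [(55, -1)]

/-- Coordinates of an image. -/
def cSign : List (List (ℕ × ℤ)) :=
  [cSign0, cSign1, cSign2, cSign3, cSign4, cSign5, cSign6, cSign7, cSign8, cSign9, cSign10, cSign11, cSign12, cSign13, cSign14, cSign15, cSign16, cSign17, cSign18, cSign19, cSign20, cSign21, cSign22, cSign23, cSign24, cSign25, cSign26, cSign27, cSign28, cSign29, cSign30, cSign31, cSign32, cSign33, cSign34, cSign35, cSign36, cSign37, cSign38, cSign39, cSign40, cSign41, cSign42, cSign43, cSign44, cSign45, cSign46, cSign47, cSign48, cSign49, cSign50, cSign51, cSign52, cSign53, cSign54, cSign55]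

/-- Coordinates of an image. -/
def cShift0 : List (ℕ × ℤ) := [(3, -1), (7, -1), (14, -1), (15, -1), (19, -1), (20, -2), (21, -2), (22, -2), (23, -3), (25, -1), (26, -1), (31, -2), (33, -2), (35, -4), (36, -1), (37, -1), (38, -4), (39, -5), (40, -7), (41, -6), (42, -7), (43, -10), (44, -6), (45, -9), (46, -13), (47, -10), (48, -7), (49, -11), (50, -17), (51, -11), (52, -12), (53, -11), (54, -11), (55, -11)]
/-- Coordinates of an image. -/
def cShift1 : List (ℕ × ℤ) := [(5, -1), (6, -1), (7, -1), (11, -1), (12, -1), (13, -1), (14, -2), (15, -1), (17, -1), (18, -1), (19, -2), (20, -5), (21, -4), (22, -5), (23, -7), (25, -1), (26, -1), (27, -1), (28, -1), (29, -1), (30, -1), (31, -7), (32, -1), (33, -5), (34, -2), (35, -12), (36, -3), (37, -5), (38, -12), (39, -13), (40, -19), (41, -17), (42, -17), (43, -24), (44, -17), (45, -25), (46, -35), (47, -24), (48, -19), (49, -31), (50, -51), (51, -31), (52,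 -33), (53, -27), (54, -31), (55, -29)]
/-- Coordinates of an image. -/
def cShift2 : List (ℕ × ℤ) := [(3, -1), (5, -1), (7, -1), (11, -1), (12, -1), (13, -1), (14, -2), (15, -2), (17, -1), (18, -1), (19, -2), (20, -5), (21, -5), (22, -6), (23, -7), (25, -1), (26, -1), (29, -1), (30, -2), (31, -6), (32, -1), (33, -5), (34, -2), (35, -13), (36, -3), (37, -5), (38, -12), (39, -14), (40, -20), (41, -17), (42, -18), (43, -25), (44, -17), (45, -25), (46, -36), (47, -25), (48, -21), (49, -31), (50, -52), (51, -34), (52, -34), (53, -29), (54, -33), (55, -31)]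
/-- Coordinates of an image. -/
def cShift3 : List (ℕ × ℤ) := [(6, -1), (7, -1), (11, -1), (13, -1), (14, -1), (17, -1), (18, -1), (19, -1), (20, -3), (21, -2), (22, -3), (23, -4), (28, -1), (31, -3), (33, -3), (34, -1), (35, -6), (36, -1), (37, -3), (38, -6), (39, -7), (40, -10), (41, -9), (42, -8), (43, -13), (44, -9), (45, -14), (46, -18), (47, -14), (48, -10), (49, -16), (50, -26), (51, -16), (52, -17), (53, -13), (54, -16), (55, -15)]
/-- Coordinates of an image. -/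
def cShift4 : List (ℕ × ℤ) := [(5, -1), (7, -1), (11, -1), (12, -1), (13, -1), (14, -1), (15, -1), (17, -1), (19, -1), (20, -4), (21, -3), (22, -4), (23, -5), (25, -1), (26, -1), (29, -1), (30, -2), (31, -5), (32, -1), (33, -4), (34, -2), (35, -10), (36, -2), (37, -4), (38, -9), (39, -11), (40, -14), (41, -14), (42, -13), (43, -18), (44, -13), (45, -19), (46, -27), (47, -18), (48, -15), (49, -24), (50, -39), (51, -25), (52, -26), (53, -21), (54, -24), (55, -22)]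
/-- Coordinates of an image. -/
def cShift5 : List (ℕ × ℤ) := [(3, -1), (6, -1), (7, -1), (11, -1), (12, -1), (13, -1), (14, -2), (15, -1), (18, -1), (19, -1), (20, -4), (21, -4), (22, -5), (23, -6), (25, -1), (26, -1), (27, -1), (28, -1), (29, -1), (30, -1), (31, -7), (32, -1), (33, -4), (34, -1), (35, -10), (36, -3), (37, -4), (38, -10), (39, -11), (40, -17), (41, -15), (42, -16), (43, -22), (44, -15), (45, -22), (46, -32), (47, -23), (48, -17), (49, -27), (50, -45), (51, -28), (52, -29), (53, -25), (54, -27), (55, -26)]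
/-- Coordinates of an image. -/
def cShift6 : List (ℕ × ℤ) := [(3, -1), (5, -1), (6, -1), (7, -2), (11, -1), (12, -1), (13, -1), (14, -2), (15, -2), (19, -1), (20, -6), (21, -5), (22, -6), (23, -8), (25, -1), (26, -1), (27, -1), (28, -1), (29, -1), (30, -2), (31, -7), (32, -1), (33, -5), (34, -2), (35, -13), (36, -3), (37, -6), (38, -12), (39, -15), (40, -20), (41, -18), (42, -19), (43, -26), (44, -19), (45, -27), (46, -38), (47, -27), (48, -21), (49, -33), (50, -55), (51, -35), (52, -36), (53, -30), (54, -33), (55, -32)]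
/-- Coordinates of an image. -/
def cShift7 : List (ℕ × ℤ) := [(12, -1), (13, -1), (14, -1), (15, -1), (20, -2), (21, -2), (22, -2), (23, -2), (25, -1), (29, -1), (30, -1), (31, -4), (33, -2), (34, -1), (35, -6), (36, -1), (37, -3), (38, -5), (39, -6), (40, -8), (41, -7), (42, -7), (43, -10), (44, -6), (45, -9), (46, -15), (47, -9), (48, -8), (49, -11), (50, -20), (51, -13), (52, -14), (53, -10), (54, -13), (55, -11)]
/-- Coordinates of an image. -/
def cShift8 : List (ℕ × ℤ) := [(0, 1), (3, -1), (5, -1), (7, -1), (12, -1), (13, -1), (14, -2), (15, -1), (18, -1), (19, -2), (20, -4), (21, -4), (22, -4), (23, -6), (25, -1), (26, -1), (29, -1), (30, -2), (31, -5), (32, -1), (33, -3), (34, -1), (35, -10), (36, -3), (37, -4), (38, -9), (39, -10), (40, -16), (41, -14), (42, -15), (43, -21), (44, -14), (45, -21), (46, -30), (47, -20), (48, -16), (49, -25), (50, -42), (51, -26), (52, -27), (53, -24), (54,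 -26), (55, -23)]
/-- Coordinates of an image. -/
def cShift9 : List (ℕ × ℤ) := [(1, 1), (3, -1), (5, -1), (6, -1), (7, -1), (11, -1), (12, -1), (13, -1), (14, -2), (15, -1), (18, -1), (19, -2), (20, -4), (21, -4), (22, -5), (23, -6), (25, -1), (26, -1), (27, -1), (28, -1), (30, -2), (31, -7), (33, -3), (34, -1), (35, -10), (36, -2), (37, -4), (38, -9), (39, -11), (40, -16), (41, -14), (42, -15), (43, -21), (44, -15), (45, -22), (46, -30), (47, -22), (48, -17), (49, -26), (50, -43), (51, -27), (52, -27), (53, -24), (54, -26), (55, -25)]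
/-- Coordinates of an image. -/
def cShift10 : List (ℕ × ℤ) := [(2, 1), (3, -1), (6, -1), (7, -1), (14, -1), (15, -2), (17, -1), (19, -1), (20, -3), (21, -2), (22, -2), (23, -3), (28, -1), (30, -1), (31, -3), (32, -1), (33, -3), (34, -1), (35, -6), (36, -2), (37, -3), (38, -5), (39, -7), (40, -10), (41, -10), (42, -10), (43, -14), (44, -9), (45, -14), (46, -18), (47, -13), (48, -10), (49, -17), (50, -28), (51, -17), (52, -19), (53, -14), (54, -17), (55, -15)]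
/-- Coordinates of an image. -/
def cShift11 : List (ℕ × ℤ) := [(3, 2), (7, 1), (12, -1), (13, -1), (15, 1), (19, 1), (21, 1), (22, 1), (23, 1), (26, 1), (27, -1), (29, -1), (30, 1), (31, -1), (32, -1), (34, -1), (35, 1), (37, -1), (40, 1), (41, 1), (42, 2), (43, 2), (44, 2), (45, 2), (46, 3), (47, 3), (48, 3), (49, 2), (50, 3), (51, 3), (52, 2), (53, 4), (54, 2), (55, 3)]
/-- Coordinates of an image. -/
def cShift12 : List (ℕ × ℤ) := [(4, 1), (5, -1), (6, -1), (7, -1), (11, -1), (12, -1), (13, -1), (14, -2), (17, -1), (19, -1), (20, -4), (21, -3), (22, -4), (23, -5), (26, -1), (27, -1), (28, -1), (29, -1), (30, -1), (31, -5), (33, -3), (34, -1), (35, -9), (36, -2), (37, -4), (38, -8), (39, -9), (40, -13), (41, -12), (42, -12), (43, -17), (44, -12), (45, -18), (46, -26), (47, -17), (48, -14), (49, -22), (50, -36), (51, -22), (52, -24), (53, -19), (54, -23), (55, -19)]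
/-- Coordinates of an image. -/
def cShift13 : List (ℕ × ℤ) := [(5, 2), (7, 1), (11, 1), (12, -1), (13, -1), (19, 1), (20, 1), (22, 1), (23, 1), (25, -1), (26, 1), (27, -1), (29, -1), (30, 1), (31, -1), (32, -1), (35, 2), (37, 1), (39, 1), (40, 2), (41, 2), (42, 2), (43, 3), (44, 2), (45, 4), (46, 4), (47, 3), (48, 3), (49, 3), (50, 6), (51, 5), (52, 3), (53, 3), (54, 4), (55, 3)]
/-- Coordinates of an image. -/
def cShift14 : List (ℕ × ℤ) := [(6, 2), (7, 1), (11, 1), (12, -1), (15, 1), (20, 2), (21, 1), (22, 1), (23, 2), (25, -1), (27, -1), (28, 1), (29, -1), (30, 1), (31, 1), (32, -1), (33, 1), (34, -1), (35, 2), (37, 2), (39, 1), (40, 4), (41, 3), (42, 4), (43, 6), (44, 4), (45, 6), (46, 6), (47, 7), (48, 4), (49, 4), (50, 11), (51, 7), (52, 6), (53, 4), (54, 5), (55, 5)]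
/-- Coordinates of an image. -/
def cShift15 : List (ℕ × ℤ) := [(7, 1), (12, -1), (13, -1), (14, -1), (20, -1), (21, -1), (22, -1), (23, -1), (25, -1), (27, -1), (29, -1), (31, -3), (32, -1), (33, -1), (34, -1), (35, -3), (36, -1), (37, -1), (38, -3), (39, -3), (40, -5), (41, -3), (42, -4), (43, -5), (44, -3), (45, -4), (46, -8), (47, -5), (48, -4), (49, -7), (50, -11), (51, -7), (52, -8), (53, -6), (54, -7), (55, -7)]
/-- Coordinates of an image. -/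
def cShift16 : List (ℕ × ℤ) := [(8, 1), (15, 1), (20, 1), (21, 1), (22, 1), (23, 1), (27, 1), (31, 1), (35, 1), (38, 1), (39, 1), (40, 2), (42, 1), (43, 1), (44, 2), (45, 2), (46, 2), (47, 3), (48, 2), (49, 3), (50, 5), (51, 3), (52, 2), (53, 3), (54, 3), (55, 4)]
/-- Coordinates of an image. -/
def cShift17 : List (ℕ × ℤ) := [(9, 1), (12, -1), (25, -1), (29, -1), (31, -2), (38, -1), (40, -1), (41, -2), (42, -1), (43, -2), (44, -2), (45, -2), (46, -4), (47, -1), (48, -1), (49, -3), (50, -4), (51, -1), (52, -2), (53, -2), (54, -3), (55, -2)]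
/-- Coordinates of an image. -/
def cShift18 : List (ℕ × ℤ) := [(10, 1), (32, -1), (33, -1), (34, -1), (35, -1), (38, -1), (39, -1), (40, -1), (41, -1), (42, -2), (43, -2), (45, -1), (46, -2), (47, -1), (49, -1), (50, -2), (51, -2), (52, -2), (53, -1), (54, -1), (55, -1)]
/-- Coordinates of an image. -/
def cShift19 : List (ℕ × ℤ) := [(11, 1), (15, -1), (27, -1), (30, -1), (31, -1), (32, -1), (33, -1), (34, -1), (35, -1), (36, -1), (37, -1), (38, -2), (39, -2), (40, -3), (41, -3), (42, -3), (43, -3), (44, -2), (45, -3), (46, -5), (47, -2), (48, -2), (49, -4), (50, -8), (51, -5), (52, -5), (53, -3), (54, -4), (55, -4)]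
/-- Coordinates of an image. -/
def cShift20 : List (ℕ × ℤ) := [(12, 2), (13, 1), (14, 1), (20, 2), (21, 2), (22, 2), (23, 2), (25, 1), (29, 1), (31, 3), (33, 1), (34, 1), (35, 4), (36, 1), (37, 1), (38, 4), (39, 4), (40, 5), (41, 4), (42, 4), (43, 6), (44, 4), (45, 6), (46, 10), (47, 6), (48, 6), (49, 9), (50, 13), (51, 8), (52, 10), (53, 8), (54, 9), (55, 8)]
/-- Coordinates of an image. -/
def cShift21 : List (ℕ × ℤ) := [(13, 1), (15, -1), (27, -1), (31, -1), (32, -1), (33, -1), (34, -1), (35, -1), (36, -1), (38, -2), (39, -2), (40, -2), (41, -2), (42, -2), (43, -2), (44, -2), (45, -3), (46, -3), (47, -2), (48, -1), (49, -4), (50, -6), (51, -3), (52, -3), (53, -3), (54, -3), (55, -4)]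
/-- Coordinates of an image. -/
def cShift22 : List (ℕ × ℤ) := [(14, 1), (15, -1), (30, -1), (31, -1), (32, -1), (33, -1), (34, -1), (35, -1), (36, -1), (37, -1), (38, -2), (39, -2), (40, -3), (41, -2), (42, -2), (43, -2), (44, -2), (45, -3), (46, -3), (47, -2), (48, -2), (49, -3), (50, -7), (51, -5), (52, -4), (53, -3), (54, -3), (55, -4)]
/-- Coordinates of an image. -/
def cShift23 : List (ℕ × ℤ) := [(15, 2), (20, 1), (21, 1), (22, 1), (23, 1), (31, 1), (33, 1), (35, 2), (37, 1), (38, 1), (39, 2), (40, 3), (41, 2), (42, 2), (43, 3), (44, 2), (45, 3), (46, 4), (47, 3), (48, 3), (49, 3), (50, 7), (51, 5), (52, 4), (53, 3), (54, 5), (55, 5)]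
/-- Coordinates of an image. -/
def cShift24 : List (ℕ × ℤ) := [(16, 1), (17, -1), (18, -1), (19, -1), (20, -1), (22, -1), (23, -2), (32, -1), (33, -2), (34, -1), (35, -3), (36, -1), (37, -1), (38, -3), (39, -3), (40, -4), (41, -5), (42, -5), (43, -6), (44, -3), (45, -6), (46, -8), (47, -5), (48, -4), (49, -7), (50, -12), (51, -7), (52, -9), (53, -6), (54, -7), (55, -6)]
/-- Coordinates of an image. -/
def cShift25 : List (ℕ × ℤ) := [(17, 2), (19, 1), (20, 1), (30, -1), (31, -1), (32, -1), (35, 1), (36, -1), (37, 1), (39, 1), (40, -1), (44, -1), (45, -1), (47, -1), (48, 1), (49, 1), (52, 2), (53, -1), (54, 2), (55, -1)]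
/-- Coordinates of an image. -/
def cShift26 : List (ℕ × ℤ) := [(18, 2), (19, 1), (22, 1), (23, 1), (27, -1), (32, -1), (34, -1), (35, 1), (40, 1), (41, 1), (42, 2), (43, 2), (45, 1), (46, 3), (47, 2), (48, 2), (50, 3), (51, 2), (52, 1), (53, 2), (54, 2), (55, 1)]
/-- Coordinates of an image. -/
def cShift27 : List (ℕ × ℤ) := [(19, 1), (30, -1), (31, -1), (41, -1), (42, -1), (43, -1), (46, -2), (47, -1), (50, -1), (51, -1), (52, -1)]
/-- Coordinates of an image. -/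
def cShift28 : List (ℕ × ℤ) := [(20, 1), (32, -1), (33, -1), (34, -1), (36, -1), (38, -1), (39, -1), (40, -2), (41, -2), (42, -2), (43, -2), (44, -2), (45, -2), (46, -3), (47, -2), (48, -1), (49, -3), (50, -5), (51, -3), (52, -3), (53, -3), (54, -2), (55, -3)]
/-- Coordinates of an image. -/
def cShift29 : List (ℕ × ℤ) := [(21, 1), (27, -1), (30, -1), (31, -1), (38, -1), (42, -1), (46, -1), (50, -1), (51, -1)]
/-- Coordinates of an image. -/
def cShift30 : List (ℕ × ℤ) := [(22, 1), (27, -1), (30, -1), (31, -1), (32, -1), (33, -1), (34, -1), (35, -1), (36, -1), (38, -2), (39, -1), (40, -2), (41, -1), (42, -2), (43, -2), (44, -1), (45, -1), (46, -2), (47, -1), (48, -1), (49, -3), (50, -5), (51, -3), (52, -3), (53, -2), (54, -2), (55, -3)]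
/-- Coordinates of an image. -/
def cShift31 : List (ℕ × ℤ) := [(23, 1)]
/-- Coordinates of an image. -/
def cShift32 : List (ℕ × ℤ) := [(24, 1), (27, 1), (30, 1), (31, 1), (32, -1), (33, -1), (34, -1), (36, -1), (37, -1), (39, -1), (40, -1), (41, -2), (42, -2), (43, -2), (44, -1), (45, -2), (46, -3), (47, -1), (48, -1), (49, -2), (50, -3), (51, -2), (52, -4), (53, -2), (54, -1), (55, -1)]
/-- Coordinates of an image. -/
def cShift33 : List (ℕ × ℤ) := [(25, 1), (27, -1), (30, -1), (31, -1), (32, -1), (33, -1), (34, -1), (35, -1), (36, -1), (38, -2), (39, -1), (40, -2), (41, -1), (42, -1), (43, -1), (44, -2), (45, -2), (46, -2), (47, -2), (48, -1), (49, -3), (50, -5), (51, -3), (52, -2), (53, -2), (54, -2), (55, -3)]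
/-- Coordinates of an image. -/
def cShift34 : List (ℕ × ℤ) := [(26, 1), (27, -1), (30, -1), (31, -1), (38, -1), (41, -1), (43, -1), (44, -1), (45, -1), (46, -1), (47, -1), (49, -1), (50, -2), (54, -1), (55, -1)]
/-- Coordinates of an image. -/
def cShift35 : List (ℕ × ℤ) := [(27, 2), (31, 1), (38, 1), (39, 1), (49, 1), (50, 1), (54, 1), (55, 1)]
/-- Coordinates of an image. -/
def cShift36 : List (ℕ × ℤ) := [(28, 1), (30, -1), (32, -1), (33, -1), (34, -1), (35, -1), (36, -1), (38, -2), (39, -1), (40, -2), (41, -2), (42, -2), (43, -2), (44, -2), (45, -3), (46, -3), (47, -2), (48, -1), (49, -3), (50, -5), (51, -3), (52, -3), (53, -3), (54, -2), (55, -3)]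
/-- Coordinates of an image. -/
def cShift37 : List (ℕ × ℤ) := [(29, 1), (32, -1), (33, -1), (34, -1), (36, -1), (38, -1), (39, -1), (40, -2), (41, -1), (42, -2), (43, -2), (44, -2), (45, -2), (46, -3), (47, -2), (48, -1), (49, -3), (50, -4), (51, -3), (52, -3), (53, -3), (54, -1), (55, -3)]
/-- Coordinates of an image. -/
def cShift38 : List (ℕ × ℤ) := [(30, 2), (31, 1), (35, 1), (38, 1), (40, 1), (41, 1), (42, 1), (43, 1), (44, 1), (45, 1), (46, 2), (47, 1), (48, 1), (49, 1), (50, 3), (51, 2), (52, 1), (53, 1), (54, 1), (55, 1)]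
/-- Coordinates of an image. -/
def cShift39 : List (ℕ × ℤ) := [(31, 1)]
/-- Coordinates of an image. -/
def cShift40 : List (ℕ × ℤ) := [(32, 2), (33, 1), (34, 1), (36, 1), (38, 1), (39, 1), (40, 2), (41, 2), (42, 1), (43, 1), (44, 2), (45, 3), (46, 2), (47, 1), (48, 1), (49, 4), (50, 5), (51, 3), (52, 3), (53, 3), (54, 2), (55, 3)]
/-- Coordinates of an image. -/
def cShift41 : List (ℕ × ℤ) := [(33, 1), (37, -1), (41, -1), (42, -1), (43, -1), (44, -1), (45, -1), (46, -2), (47, -1), (49, -1), (50, -2), (51, -1), (52, -1), (53, -1), (54, -1)]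
/-- Coordinates of an image. -/
def cShift42 : List (ℕ × ℤ) := [(34, 1), (42, -1), (43, -1), (44, -1), (45, -1), (46, -1), (47, -1), (50, -1), (53, -1)]
/-- Coordinates of an image. -/
def cShift43 : List (ℕ × ℤ) := [(35, 1)]
/-- Coordinates of an image. -/
def cShift44 : List (ℕ × ℤ) := [(36, 1), (37, -1), (39, -1), (41, -1), (42, -1), (43, -1), (45, -1), (46, -1), (47, -1), (50, -1), (51, -1), (52, -1), (54, -1)]
/-- Coordinates of an image. -/
def cShift45 : List (ℕ × ℤ) := [(37, 2), (39, 1), (40, 1), (41, 1), (42, 1), (43, 1), (44, 1), (45, 1), (46, 2), (47, 1), (48, 1), (49, 1), (50, 3), (51, 2), (52, 2), (53, 1), (54, 2), (55, 1)]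
/-- Coordinates of an image. -/
def cShift46 : List (ℕ × ℤ) := [(38, 1)]
/-- Coordinates of an image. -/
def cShift47 : List (ℕ × ℤ) := [(39, 1)]
/-- Coordinates of an image. -/
def cShift48 : List (ℕ × ℤ) := [(40, 1), (41, -1), (42, -1), (43, -1), (44, -1), (45, -1), (46, -2), (47, -1), (49, -1), (50, -1), (52, -1), (53, -1)]
/-- Coordinates of an image. -/
def cShift49 : List (ℕ × ℤ) := [(41, 2), (43, 1), (45, 1), (46, 1), (49, 1), (50, 1), (52, 1), (54, 1)]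
/-- Coordinates of an image. -/
def cShift50 : List (ℕ × ℤ) := [(42, 2), (43, 1), (46, 1), (47, 1), (50, 1), (51, 1), (52, 1), (53, 1)]
/-- Coordinates of an image. -/
def cShift51 : List (ℕ × ℤ) := [(43, 1)]
/-- Coordinates of an image. -/
def cShift52 : List (ℕ × ℤ) := [(44, 2), (45, 1), (46, 1), (47, 1), (49, 1), (50, 1), (53, 1), (55, 1)]
/-- Coordinates of an image. -/
def cShift53 : List (ℕ × ℤ) := [(45, 1)]
/-- Coordinates of an image. -/
def cShift54 : List (ℕ × ℤ) := [(46, 1)]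
/-- Coordinates of an image. -/
def cShift55 : List (ℕ × ℤ) := [(47, 1)]

/-- Coordinates of an image. -/
def cShift : List (List (ℕ × ℤ)) :=
  [cShift0, cShift1, cShift2, cShift3, cShift4, cShift5, cShift6, cShift7, cShift8, cShift9, cShift10, cShift11, cShift12, cShift13, cShift14, cShift15, cShift16, cShift17, cShift18, cShift19, cShift20, cShift21, cShift22, cShift23, cShift24, cShift25, cShift26, cShift27, cShift28, cShift29, cShift30, cShift31, cShift32, cShift33, cShift34, cShift35, cShift36, cShift37, cShift38, cShift39, cShift40, cShift41, cShift42, cShift43, cShift44, cShift45, cShift46, cShift47, cShift48, cShift49, cShift50, cShift51, cShift52, cShift53, cShift54, cShift55]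

/-- Coordinates of an image. -/
def cGen0 : List (ℕ × ℤ) := [(0, 4), (7, 2), (11, 2), (15, 2), (20, 3), (21, 3), (22, 5), (23, 6), (27, 2), (28, 2), (31, 4), (33, 5), (34, 2), (35, 7), (37, 3), (38, 7), (39, 12), (40, 11), (41, 12), (42, 10), (43, 14), (44, 12), (45, 17), (46, 22), (47, 17), (48, 14), (49, 21), (50, 34), (51, 23), (52, 21), (53, 17), (54, 21), (55, 24)]
/-- Coordinates of an image. -/
def cGen1 : List (ℕ × ℤ) := [(1, -1), (2, 1), (4, 1), (6, 1), (7, 1), (11, 1), (13, 1), (15, 1), (19, 1), (20, 3), (21, 3), (22, 2), (23, 5), (24, 1), (25, 1), (26, 1), (28, 1), (29, 1), (30, 1), (31, 5), (33, 2), (35, 6), (37, 3), (38, 6), (39, 6), (40, 11), (41, 9), (42, 9), (43, 14), (44, 9), (45, 14), (46, 17), (47, 15), (48, 10), (49, 16), (50, 28), (51, 18), (52, 17), (53, 14), (54, 16), (55, 16)]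
/-- Coordinates of an image. -/
def cGen2 : List (ℕ × ℤ) := [(1, -1), (2, 1), (4, -1), (6, -1), (7, -1), (13, -1), (14, -1), (15, -1), (20, -3), (21, -2), (22, -2), (23, -3), (24, 1), (29, 1), (31, -2), (33, -3), (34, -1), (35, -5), (36, -1), (37, -3), (38, -4), (39, -6), (40, -7), (41, -7), (42, -6), (43, -10), (44, -6), (45, -9), (46, -13), (47, -9), (48, -7), (49, -11), (50, -18), (51, -11), (52, -14), (53, -8), (54, -11), (55, -11)]
/-- Coordinates of an image. -/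
def cGen3 : List (ℕ × ℤ) := [(1, -1), (2, -1), (4, 1), (6, -1), (7, -1), (11, -1), (13, -1), (14, -1), (20, -3), (21, -2), (22, -3), (23, -4), (24, 1), (29, -1), (31, -2), (33, -2), (35, -5), (36, -1), (37, -3), (38, -4), (39, -5), (40, -7), (41, -6), (42, -6), (43, -9), (44, -7), (45, -10), (46, -15), (47, -10), (48, -8), (49, -10), (50, -19), (51, -12), (52, -13), (53, -10), (54, -12), (55, -10)]
/-- Coordinates of an image. -/
def cGen4 : List (ℕ × ℤ) := [(1, -1), (2, -1), (4, -1), (6, 1), (7, -1), (13, -1), (19, -1), (20, -2), (21, -2), (22, -2), (23, -4), (24, 1), (25, -1), (26, -1), (28, 1), (29, -1), (30, -1), (31, -2), (33, -2), (34, -1), (35, -5), (37, -2), (38, -6), (39, -6), (40, -6), (41, -6), (42, -5), (43, -7), (44, -6), (45, -8), (46, -13), (47, -8), (48, -7), (49, -10), (50, -16), (51, -11), (52, -11), (53, -9), (54, -10), (55, -10)]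
/-- Coordinates of an image. -/
def cGen5 : List (ℕ × ℤ) := [(0, 1), (2, 1), (4, 1), (6, 1), (7, 2), (8, 1), (11, 2), (13, 2), (15, 2), (16, 1), (18, -1), (19, 1), (20, 6), (21, 6), (22, 5), (23, 9), (25, 1), (26, 1), (27, 1), (28, 1), (29, 1), (30, 2), (31, 8), (32, 1), (33, 5), (34, 2), (35, 12), (36, 1), (37, 7), (38, 12), (39, 15), (40, 20), (41, 18), (42, 16), (43, 24), (44, 20), (45, 28), (46, 35), (47, 28), (48, 20), (49, 33), (50, 55), (51, 35), (52, 34), (53, 28), (54, 31), (55, 32)]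
/-- Coordinates of an image. -/
def cGen6 : List (ℕ × ℤ) := [(0, 1), (2, 1), (4, 1), (6, 1), (7, 2), (10, -1), (11, 1), (13, 2), (15, 1), (19, 1), (20, 4), (21, 4), (22, 4), (23, 7), (24, -1), (30, 1), (31, 3), (33, 4), (34, 1), (35, 8), (37, 4), (38, 7), (39, 9), (40, 11), (41, 11), (42, 10), (43, 15), (44, 11), (45, 16), (46, 22), (47, 17), (48, 12), (49, 17), (50, 31), (51, 20), (52, 20), (53, 15), (54, 18), (55, 18)]
/-- Coordinates of an image. -/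
def cGen7 : List (ℕ × ℤ) := [(0, 1), (2, 1), (4, 1), (6, 1), (7, 2), (11, 2), (12, -1), (13, 1), (15, 1), (19, 1), (20, 4), (21, 4), (22, 3), (23, 7), (25, 1), (28, 1), (30, 1), (31, 4), (33, 4), (35, 7), (37, 4), (38, 7), (39, 9), (40, 13), (41, 12), (42, 11), (43, 17), (44, 12), (45, 18), (46, 22), (47, 19), (48, 13), (49, 20), (50, 35), (51, 22), (52, 21), (53, 17), (54, 20), (55, 21)]
/-- Coordinates of an image. -/
def cGen8 : List (ℕ × ℤ) := [(0, 1), (2, 1), (4, -1), (6, -1), (10, 1), (11, 1), (21, 1), (22, 2), (23, 2), (24, -1), (30, -1), (31, -1), (39, 2), (40, 1), (43, -1), (44, 1), (45, 1), (46, 2), (47, 2), (48, 3), (49, 1), (50, 2), (51, 3), (52, 1), (53, 3), (54, 2), (55, 3)]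
/-- Coordinates of an image. -/
def cGen9 : List (ℕ × ℤ) := [(0, 1), (2, 1), (4, -1), (6, -1), (12, -1), (13, -1), (14, -1), (15, -1), (20, -3), (21, -2), (22, -1), (23, -2), (26, 1), (30, -1), (31, -3), (32, -1), (33, -2), (34, -1), (35, -5), (36, -1), (37, -3), (38, -4), (39, -4), (40, -7), (41, -6), (42, -5), (43, -9), (44, -6), (45, -9), (46, -11), (47, -8), (48, -6), (49, -11), (50, -18), (51, -10), (52, -12), (53, -8), (54, -11), (55, -10)]
/-- Coordinates of an image. -/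
def cGen10 : List (ℕ × ℤ) := [(0, 1), (2, 1), (4, -1), (6, -1), (8, 1), (11, 1), (17, -1), (21, 1), (22, 2), (23, 2), (26, 1), (27, 1), (28, 1), (29, 1), (31, 2), (34, -1), (35, 1), (38, 1), (39, 2), (40, 3), (41, 2), (42, 2), (43, 2), (44, 3), (45, 4), (46, 5), (47, 4), (48, 4), (49, 4), (50, 8), (51, 6), (52, 3), (53, 6), (54, 5), (55, 5)]
/-- Coordinates of an image. -/
def cGen11 : List (ℕ × ℤ) := [(0, 1), (2, 1), (4, -1), (6, -1), (9, -1), (13, -1), (14, -1), (16, 1), (18, 1), (19, 1), (20, -2), (21, -1), (29, 1), (30, -1), (31, -1), (33, -1), (35, -3), (37, -1), (38, -1), (39, -1), (40, -2), (41, -1), (42, -2), (43, -3), (44, -1), (45, -1), (46, -2), (47, -3), (48, -1), (49, -2), (50, -3), (51, -2), (52, -5), (53, -1), (54, -1), (55, -2)]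
/-- Coordinates of an image. -/
def cGen12 : List (ℕ × ℤ) := [(0, 1), (2, -1), (4, 1), (6, -1), (9, -1), (11, -1), (13, -1), (14, -1), (20, -2), (21, -2), (22, -2), (23, -2), (26, -1), (29, -1), (30, -1), (31, -3), (33, -1), (34, 1), (35, -5), (36, -1), (37, -2), (38, -3), (39, -3), (40, -7), (41, -5), (42, -6), (43, -8), (44, -5), (45, -8), (46, -12), (47, -9), (48, -7), (49, -8), (50, -17), (51, -11), (52, -11), (53, -10), (54, -10), (55, -8)]
/-- Coordinates of an image. -/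
def cGen13 : List (ℕ × ℤ) := [(0, 1), (2, -1), (4, 1), (6, -1), (8, -1), (11, -1), (13, -1), (20, -2), (21, -2), (22, -2), (23, -3), (26, -1), (29, -1), (30, -1), (31, -3), (34, 1), (35, -4), (36, -1), (37, -2), (38, -3), (39, -2), (40, -7), (41, -4), (42, -5), (43, -7), (44, -5), (45, -8), (46, -10), (47, -9), (48, -6), (49, -7), (50, -16), (51, -10), (52, -9), (53, -9), (54, -9), (55, -7)]
/-- Coordinates of an image. -/
def cGen14 : List (ℕ × ℤ) := [(0, 1), (2, -1), (4, 1), (6, -1), (12, -1), (13, -1), (14, -1), (16, 1), (18, 1), (19, 1), (20, -2), (21, -1), (22, -1), (23, -1), (26, -1), (29, -1), (30, -1), (31, -2), (34, 1), (35, -3), (37, -1), (38, -1), (40, -3), (41, -1), (42, -2), (43, -3), (44, -2), (45, -2), (46, -5), (47, -3), (48, -3), (49, -2), (50, -6), (51, -4), (52, -5), (53, -3), (54, -4), (55, -2)]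
/-- Coordinates of an image. -/
def cGen15 : List (ℕ × ℤ) := [(0, 1), (2, -1), (4, 1), (6, -1), (10, 1), (13, -1), (15, 1), (17, -1), (20, -1), (24, 1), (25, 1), (27, 1), (28, 1), (31, 2), (32, 1), (33, 1), (34, 1), (36, 1), (38, 2), (39, 3), (40, 3), (41, 3), (42, 3), (43, 3), (44, 4), (45, 4), (46, 4), (47, 4), (48, 2), (49, 7), (50, 9), (51, 5), (52, 4), (53, 6), (54, 4), (55, 8)]
/-- Coordinates of an image. -/
def cGen16 : List (ℕ × ℤ) := [(0, 1), (2, -1), (4, -1), (6, 1), (11, 1), (12, 1), (14, 1), (15, 1), (17, -1), (19, -2), (20, 1), (21, 1), (22, 2), (25, -1), (26, -1), (27, 1), (28, 1), (31, 2), (33, 1), (35, 2), (36, 1), (37, 1), (39, 2), (40, 2), (41, 2), (42, 2), (43, 3), (44, 2), (45, 3), (46, 5), (47, 3), (48, 3), (49, 3), (50, 7), (51, 4), (52, 4), (53, 3), (54, 5), (55, 5)]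
/-- Coordinates of an image. -/
def cGen17 : List (ℕ × ℤ) := [(0, 1), (2, -1), (4, -1), (6, 1), (10, -1), (13, -1), (16, -1), (18, 1), (19, -1), (20, -1), (21, -2), (23, -2), (24, -1), (25, -2), (26, -1), (27, -1), (29, -1), (30, -1), (31, -4), (34, -1), (35, -3), (37, -2), (38, -5), (39, -5), (40, -6), (41, -4), (42, -4), (43, -6), (44, -6), (45, -7), (46, -9), (47, -8), (48, -5), (49, -11), (50, -15), (51, -10), (52, -9), (53, -9), (54, -8), (55, -9)]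
/-- Coordinates of an image. -/
def cGen18 : List (ℕ × ℤ) := [(0, 1), (2, -1), (4, -1), (6, 1), (9, -1), (13, -1), (15, 1), (19, -1), (20, -1), (21, -1), (22, -1), (23, -2), (25, -1), (26, -1), (28, 1), (29, -1), (30, -1), (31, -1), (32, 1), (35, -3), (36, 1), (38, -4), (39, -2), (40, -2), (41, -1), (42, -1), (43, -2), (44, -1), (45, -2), (46, -3), (47, -3), (48, -2), (49, -2), (50, -3), (51, -3), (52, -3), (53, -3), (54, -2), (55, -2)]
/-- Coordinates of an image. -/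
def cGen19 : List (ℕ × ℤ) := [(0, 1), (2, -1), (4, -1), (6, 1), (8, 1), (11, 1), (14, 1), (15, 1), (19, -1), (20, 2), (21, 1), (22, 2), (23, 1), (25, -1), (27, 1), (28, 2), (31, 3), (33, 1), (35, 3), (36, 1), (37, 2), (38, 1), (39, 3), (40, 5), (41, 4), (42, 4), (43, 6), (44, 4), (45, 6), (46, 8), (47, 6), (48, 6), (49, 8), (50, 14), (51, 9), (52, 9), (53, 6), (54, 9), (55, 8)]

/-- Coordinates of an image. -/
def cGen : List (List (ℕ × ℤ)) :=
  [cGen0, cGen1, cGen2, cGen3, cGen4, cGen5, cGen6, cGen7, cGen8, cGen9, cGen10, cGen11, cGen12, cGen13, cGen14, cGen15, cGen16, cGen17, cGen18, cGen19]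

/-- A vector with double in the lattice. -/
def halves0 : List ℤ := [0, 0, 0, 0, 0, 0, 0, 0, 0, 0, 0, -1, 0, 1, 0, 0, 0, 0, 0, 0, 0, 0, 0, 0, 0, 0, 0, 0, 0, 0, 0, 0, 0, 0, 0, 0, 0, 0, 0, 0, 0, 0, 0, 0, 0, 1, -1, 0, 0, 1, 1, 0, -1, 1, 1, 1]
/-- A vector with double in the lattice. -/
def halves1 : List ℤ := [0, 0, 0, 0, 0, 0, 0, 0, 0, 0, 0, -1, 0, 0, 1, 0, 0, 0, 0, 0, 0, 0, 0, 0, 0, 0, 0, 0, 0, 0, 0, 0, 0, 0, 0, 0, 0, 0, 0, 0, 0, 0, 0, -1, 0, 1, -1, 1, 0, 0, 1, 1, 0, 1, 0, 1]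
/-- A vector with double in the lattice. -/
def halves2 : List ℤ := [0, 0, 0, 0, 0, 0, 0, 0, 0, 0, 0, -1, 0, 0, 0, 1, 0, 0, 0, 0, 0, 0, 0, 0, 0, 0, 0, 0, 0, 0, 0, 0, 0, 0, 0, 0, 0, 0, 0, 0, 0, 0, 0, 0, 0, 1, 0, 1, 0, 1, 0, 0, 0, 1, 0, 0]
/-- A vector with double in the lattice. -/
def halves3 : List ℤ := [0, 0, 0, 0, 0, 0, 0, 0, 0, 0, 0, 0, 0, 0, 0, 0, 0, 0, 0, 0, 1, 0, 0, -1, 0, 0, 0, 0, 0, 0, 0, 0, 0, 0, 0, -1, 0, 0, -1, 0, 0, 0, 0, -1, 0, -1, 0, 0, 0, -1, 0, 0, -1, 0, 0, 0]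
/-- A vector with double in the lattice. -/
def halves4 : List ℤ := [0, 0, 0, 0, 0, 0, 0, 0, 0, 0, 0, 0, 0, 0, 0, 0, 0, 0, 0, -1, 0, 1, 0, 0, 0, 0, 0, 0, 0, 0, 0, 0, 0, 0, 0, 0, 0, 0, 1, -1, 0, 0, 0, -1, 0, 1, -1, -1, 0, 0, 0, 0, -1, 0, 0, -1]
/-- A vector with double in the lattice. -/
def halves5 : List ℤ := [0, 0, 0, 0, 0, 0, 0, 0, 0, 0, 0, 0, 0, 0, 0, 0, 0, 0, 0, -1, 0, 0, 0, 1, 0, 1, 0, 0, 0, 0, 0, -1, 0, 0, 0, 1, 0, 0, 0, -1, 0, 0, 0, 0, 0, 1, -1, 0, 0, 0, 1, 0, -1, 0, 1, -1]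
/-- A vector with double in the lattice. -/
def halves6 : List ℤ := [0, 0, 0, 0, 0, 0, 0, 0, 0, 0, 0, 0, 0, 0, 0, 0, 0, 0, 0, -1, 0, 0, 0, 1, 0, 0, 1, 0, 0, 0, 0, -1, 0, 0, 0, 0, 0, 0, 1, -1, 0, 0, 0, 0, 0, 1, -1, 0, 0, 0, 1, -1, -1, 0, 1, 0]
/-- A vector with double in the lattice. -/
def halves7 : List ℤ := [0, 0, 0, 0, 0, 0, 0, 0, 0, 0, 0, 0, 0, 0, 0, 0, 0, 0, 0, 0, 0, 0, 0, 0, 0, 0, 0, 1, 0, 0, 0, -1, 0, 0, 0, 0, 0, 0, -1, -1, 0, 0, 0, 0, 0, 0, 0, 0, 0, -1, -1, 0, 0, 0, -1, -1]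
/-- A vector with double in the lattice. -/
def halves8 : List ℤ := [0, 0, 0, 0, 0, 0, 0, 0, 0, 0, 0, 0, 0, 0, 0, 0, 0, 0, 0, -1, 0, 0, 0, 1, 0, 0, 0, 0, 1, 0, 0, -1, 0, 0, 0, 1, 0, 0, 1, 0, 0, 0, 0, 0, 0, 1, -1, 0, 0, 0, 0, -1, -1, 1, 1, 0]
/-- A vector with double in the lattice. -/
def halves9 : List ℤ := [0, 0, 0, 0, 0, 0, 0, 0, 0, 0, 0, 0, 0, 0, 0, 0, 0, 0, 0, 0, 0, 0, 0, 0, 0, 0, 0, 0, 0, 1, 0, -1, 0, 0, 0, -1, 0, 0, -1, 0, 0, 0, 0, 0, 0, 0, 0, 0, 0, 0, -1, 0, 0, 0, -1, 0]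
/-- A vector with double in the lattice. -/
def halves10 : List ℤ := [0, 0, 0, 0, 0, 0, 0, 0, 0, 0, 0, 0, 0, 0, 0, 0, 0, 0, 0, -1, 0, 0, 0, 1, 0, 0, 0, 0, 0, 0, 0, 0, 0, 1, 0, 0, 0, 0, 0, -1, 0, 0, 0, 0, 0, 1, -1, 0, 0, 1, 1, 0, -1, 1, 1, -1]
/-- A vector with double in the lattice. -/
def halves11 : List ℤ := [0, 0, 0, 0, 0, 0, 0, 0, 0, 0, 0, 0, 0, 0, 0, 0, 0, 0, 0, -1, 0, 0, 0, 1, 0, 0, 0, 0, 0, 0, 0, 0, 0, 0, 0, 1, 1, 0, 0, 0, 0, 0, 0, 0, 0, 1, -1, 0, 0, 0, 0, 0, -1, 0, 1, 0]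
/-- A vector with double in the lattice. -/
def halves12 : List ℤ := [0, 0, 0, 0, 0, 0, 0, 0, 0, 0, 0, 0, 0, 0, 0, 0, 0, 0, 0, 0, 0, 0, 0, 0, 0, 0, 0, 0, 0, 0, 0, 0, 0, 0, 0, 0, 0, 0, 0, 0, 1, 0, 0, -1, 0, -1, 0, -1, 0, 0, -1, -1, 0, 0, -1, -1]
/-- A vector with double in the lattice. -/
def halves13 : List ℤ := [1, 0, 0, 0, 0, 0, 0, -1, 0, 0, 0, -1, 0, 0, 0, -1, 0, 0, 0, 0, 0, 0, -1, -1, 0, 0, 0, -1, -1, 0, 0, 0, 0, -1, -1, 0, 0, 0, 1, -1, 0, -1, 0, 1, -1, 1, 0, 0, -1, 0, -1, -1, 0, 1, 0, -2]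
/-- A vector with double in the lattice. -/
def halves14 : List ℤ := [0, 0, 1, 0, 0, 0, 0, -1, 0, 0, 0, -1, 0, -1, 0, 0, 0, 0, 0, -1, -1, -1, -1, -2, 0, -1, -1, 0, 0, -1, -1, 0, 0, 0, 0, 1, 0, -1, -1, 1, -1, 0, 0, 1, -1, 1, -2, 0, -1, 1, -2, -2, 0, 1, 1, 0]
/-- A vector with double in the lattice. -/
def halves15 : List ℤ := [0, -1, -1, 0, 1, 0, 0, 1, 0, 0, 0, 1, 0, 1, 1, -1, 0, 0, 0, 0, 1, 0, 2, 1, 0, 1, 2, 1, 0, 2, 1, -1, 0, 0, 0, 1, 1, 1, -2, -1, 1, 0, 0, -2, 1, -1, 5, -2, 2, -3, 2, 2, 1, 0, 2, 0]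
/-- A vector with double in the lattice. -/
def halves16 : List ℤ := [0, 0, 0, 0, 0, 0, 0, -2, 1, 0, 0, -1, 0, -1, 0, -1, 0, 0, 0, 0, 0, 0, 0, 0, 0, 0, -1, -1, -1, -1, 0, -2, 0, 1, 0, -1, -1, 0, 0, 3, -1, 1, 1, 3, 0, 2, 2, 2, 0, 0, 0, 2, -2, 0, 2, 0]
/-- A vector with double in the lattice. -/
def halves17 : List ℤ := [1, -2, 0, -1, 1, 0, -1, 2, 0, 0, 0, 0, 0, 2, 4, 0, 1, 0, 0, -1, 2, -1, 2, -1, 0, 2, 3, 1, 0, 2, 3, -1, 0, 0, -1, 5, 3, 1, -4, -4, 2, 0, 2, -2, 0, -2, 4, -2, 2, -4, 2, -2, 6, 0, 6, 2]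

/-- A vector with double in the lattice. -/
def halves : List (List ℤ) :=
  [halves0, halves1, halves2, halves3, halves4, halves5, halves6, halves7, halves8, halves9, halves10, halves11, halves12, halves13, halves14, halves15, halves16, halves17]

/-- Coordinates of a double. -/
def cHalves0 : List (ℕ × ℤ) := [(11, -1), (13, 1)]
/-- Coordinates of a double. -/
def cHalves1 : List (ℕ × ℤ) := [(11, -1), (14, 1)]
/-- Coordinates of a double. -/
def cHalves2 : List (ℕ × ℤ) := [(11, -1), (15, 1)]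
/-- Coordinates of a double. -/
def cHalves3 : List (ℕ × ℤ) := [(20, 1)]
/-- Coordinates of a double. -/
def cHalves4 : List (ℕ × ℤ) := [(19, -1), (21, 1)]
/-- Coordinates of a double. -/
def cHalves5 : List (ℕ × ℤ) := [(19, -1), (25, 1)]
/-- Coordinates of a double. -/
def cHalves6 : List (ℕ × ℤ) := [(19, -1), (26, 1)]
/-- Coordinates of a double. -/
def cHalves7 : List (ℕ × ℤ) := [(27, 1)]
/-- Coordinates of a double. -/
def cHalves8 : List (ℕ × ℤ) := [(19, -1), (28, 1)]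
/-- Coordinates of a double. -/
def cHalves9 : List (ℕ × ℤ) := [(29, 1)]
/-- Coordinates of a double. -/
def cHalves10 : List (ℕ × ℤ) := [(19, -1), (33, 1)]
/-- Coordinates of a double. -/
def cHalves11 : List (ℕ × ℤ) := [(19, -1), (36, 1)]
/-- Coordinates of a double. -/
def cHalves12 : List (ℕ × ℤ) := [(40, 1)]
/-- Coordinates of a double. -/
def cHalves13 : List (ℕ × ℤ) := [(0, 2)]
/-- Coordinates of a double. -/
def cHalves14 : List (ℕ × ℤ) := [(2, 2)]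
/-- Coordinates of a double. -/
def cHalves15 : List (ℕ × ℤ) := [(1, -2), (2, -2), (4, 2)]
/-- Coordinates of a double. -/
def cHalves16 : List (ℕ × ℤ) := [(7, -2), (8, 2)]
/-- Coordinates of a double. -/
def cHalves17 : List (ℕ × ℤ) := [(0, 2), (1, -4), (3, -2), (4, 2), (6, -2), (16, 2)]

/-- Coordinates of a double. -/
def cHalves : List (List (ℕ × ℤ)) :=
  [cHalves0, cHalves1, cHalves2, cHalves3, cHalves4, cHalves5, cHalves6, cHalves7, cHalves8, cHalves9, cHalves10, cHalves11, cHalves12, cHalves13, cHalves14, cHalves15, cHalves16, cHalves17]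

/-- Positions of the vectors used as tests. -/
def testIdx : List ℕ := [10, 5, 6, 3, 0, 9, 12, 2, 4, 1, 16, 8, 17, 7, 18, 24, 14, 15, 20]

/-- Generators of the parity code, as bit masks. -/
def codeGens : List ℕ := [87253161, 262757577, 204929642, 162280970, 101030604, 59811500, 174771296, 15728880, 15732480]

/-- Parities of the auxiliary vectors at each position. -/
def synList : List ℕ := [172032, 180224, 163840, 188416, 65536, 122887, 114689, 73734, 131072, 150896, 163864, 183656, 49184, 57536, 25344, 17376, 74752, 125736, 83968, 100136, 61440, 28698, 7551, 40293, 42125, 1953, 59518, 19282]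

end Cfsg.Agent.RuLattice
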