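import Cfsg.Agent.Lib.RuLattice.Basic

/-!
No vector of norm 8 in the span: the possible supports and the congruence test.
-/

set_option autoImplicit false
set_option Elab.async false

namespace Cfsg.Agent.RuLattice

open Cfsg Cfsg.Spor

/-- The numbering of the coordinates. -/
def e : Fin 28 ≃ RuIdx := (finProdFinEquiv (m := 7) (n := 4)).symm

theorem rv_e (t : List ℤ) (k : Fin 28) : rv t (e k) = ⟨t.getD (2 * k.val) 0, t.getD (2 * k.val + 1) 0⟩ := by
  have : 4 * ((e k).1).val + ((e k).2).val = k.val := by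
    show 4 * (k.val / 4) + k.val % 4 = k.val
    omega
  simp only [rv, this]

/-- A coordinate as a pair. -/
def cd (x : RuVec) (k : Fin 28) : ℤ × ℤ := ((x (e k)).re, (x (e k)).im)

theorem reProd_rv (x : RuVec) (t : List ℤ) :
    reProd x (rv t) = ∑ k, ((cd x k).1 * t.getD (2 * k.val) 0 + (cd x k).2 * t.getD (2 * k.val + 1) 0) := by
  rw [reProd, ← e.sum_comp]
  refine Finset.sum_congr rfl fun k _ => ?_
  rw [rv_e]; rfl

/-! ### parities -/

/-- The parity mask of a vector. -/
def pm (x : RuVec) : ℕ := Nat.ofBits fun k : Fin 28 => decide (¬ (2 : ℤ) ∣ (cd x k).1 + (cd x k).2)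

theorem testBit_pm (x : RuVec) (k : Fin 28) :
    (pm x).testBit k = decide (¬ (2 : ℤ) ∣ (cd x k).1 + (cd x k).2) := Nat.testBit_ofBits_lt _ _ k.isLt

theorem pm_lt (x : RuVec) : pm x < 2 ^ 28 := Nat.ofBits_lt_two_pow _

theorem pm_add (x y : RuVec) : pm (x + y) = pm x ^^^ pm y := by
  refine Nat.eq_of_testBit_eq fun i => ?_
  rw [Nat.testBit_xor]
  by_cases hi : i < 28
  · rw [testBit_pm (x + y) ⟨i, hi⟩, testBit_pm x ⟨i, hi⟩, testBit_pm y ⟨i, hi⟩]
    simp only [cd, Pi.add_apply, Zsqrtd.re_add, Zsqrtd.im_add]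
    by_cases h1 : (2 : ℤ) ∣ (x (e ⟨i, hi⟩)).re + (x (e ⟨i, hi⟩)).im <;>
      by_cases h2 : (2 : ℤ) ∣ (y (e ⟨i, hi⟩)).re + (y (e ⟨i, hi⟩)).im <;> simp [h1, h2] <;> omega
  · have hb : ∀ z : RuVec, (pm z).testBit i = false := fun z =>
      Nat.testBit_lt_two_pow ((pm_lt z).trans_le (Nat.pow_le_pow_right (by norm_num) (by omega)))
    rw [hb, hb, hb]; rfl

theorem pm_neg (x : RuVec) : pm (-x) = pm x := by
  refine congrArg Nat.ofBits (funext fun k => ?_)
  simp only [cd, Pi.neg_apply, Zsqrtd.re_neg, Zsqrtd.im_neg]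
  exact decide_eq_decide.2 (by omega)

theorem pm_zero : pm 0 = 0 := by decide +kernel

/-- A sum of code generators. -/
def comb : List ℕ → ℕ → ℕ
  | [], _ => 0
  | g :: gs, m => (if m % 2 = 1 then g else 0) ^^^ comb gs (m / 2)

theorem comb_zero (gs : List ℕ) : comb gs 0 = 0 := by
  induction gs with
  | nil => rfl
  | cons g gs ih => simp [comb, ih]

theorem comb_xor (gs : List ℕ) : ∀ m n, comb gs (m ^^^ n) = comb gs m ^^^ comb gs n := by
  induction gs with
  | nil => intro m n; simp [comb]
  | cons g gs ih =>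
    intro m n
    have h2 : (m ^^^ n) / 2 = m / 2 ^^^ n / 2 := by
      refine Nat.eq_of_testBit_eq fun i => ?_
      rw [Nat.testBit_xor, Nat.testBit_div_two, Nat.testBit_div_two, Nat.testBit_div_two, Nat.testBit_xor]
    have h1 : (m ^^^ n).testBit 0 = (m.testBit 0 ^^ n.testBit 0) := Nat.testBit_xor _ _ _
    simp only [Nat.testBit_zero] at h1
    simp only [comb, h2, ih]
    by_cases a : m % 2 = 1 <;> by_cases b : n % 2 = 1 <;> simp [a, b] at h1 ⊢ <;>
      simp [h1, Nat.xor_assoc, Nat.xor_comm, Nat.xor_left_comm]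

/-- Each parity of a basis vector is in the code. -/
def codeOk : Bool := basis.all fun t => (List.range 512).any fun m => comb codeGens m == pm (rv t)

theorem codeOk_true : codeOk = true := by decide +kernel

theorem pm_mem_code {x : RuVec} (hx : x ∈ span) : ∃ m < 512, comb codeGens m = pm x := by
  induction hx using AddSubgroup.closure_induction with
  | mem z hz =>
    obtain ⟨t, ht, rfl⟩ := hz
    have h := codeOk_true
    simp only [codeOk, List.all_eq_true, List.any_eq_true, List.mem_range, beq_iff_eq] at h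
    exact h t ht
  | zero => exact ⟨0, by norm_num, by rw [comb_zero, pm_zero]⟩
  | add a b _ _ ha hb =>
    obtain ⟨m, hm, h1⟩ := ha
    obtain ⟨n, hn, h2⟩ := hb
    exact ⟨m ^^^ n, Nat.xor_lt_two_pow (n := 9) hm hn, by rw [comb_xor, h1, h2, pm_add]⟩
  | neg a _ ha => rwa [pm_neg]

/-! ### the congruence test on a support -/

/-- Digits modulo four in base sixteen. -/
def pk : List ℤ → ℕ
  | [] => 0
  | d :: ds => (d % 4).toNat + 16 * pk ds

/-- The test vectors. -/
def tests : List (List ℤ) := testIdx.map fun i => basis.getD i []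

theorem tests_mem : (tests.all fun t => basis.contains t) = true := by decide +kernel

/-- The mask keeping two bits of each digit. -/
def msk : ℕ := pk (List.replicate tests.length 3)

theorem pk_add {α : Type*} (f g : α → ℤ) : ∀ l : List α,
    (pk (l.map f) + pk (l.map g)) &&& pk (List.replicate l.length 3) = pk (l.map fun a => f a + g a)
  | [] => by simp [pk]
  | a :: l => by
    have ih := pk_add f g l
    simp only [List.map_cons, List.length_cons, List.replicate_succ, pk]
    rw [← Nat.mod_add_div ((_ + _) &&& _) 16, show (16 : ℕ) = 2 ^ 4 from rfl, Nat.and_mod_two_pow,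
      Nat.and_div_two_pow, show (2 ^ 4 : ℕ) = 16 from rfl]
    have a0 := Int.emod_nonneg (f a) (show (4 : ℤ) ≠ 0 by norm_num)
    have a1 := Int.emod_lt_of_pos (f a) (show (0 : ℤ) < 4 by norm_num)
    have b0 := Int.emod_nonneg (g a) (show (4 : ℤ) ≠ 0 by norm_num)
    have b1 := Int.emod_lt_of_pos (g a) (show (0 : ℤ) < 4 by norm_num)
    have e1 : ((f a % 4).toNat + 16 * pk (l.map f) + ((g a % 4).toNat + 16 * pk (l.map g))) % 16 =
        (f a % 4).toNat + (g a % 4).toNat := by omega
    have e2 : ((f a % 4).toNat + 16 * pk (l.map f) + ((g a % 4).toNat + 16 * pk (l.map g))) / 16 =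
        pk (l.map f) + pk (l.map g) := by omega
    have e3 : ((3 % 4 : ℤ)).toNat = 3 := rfl
    rw [e1, e2, e3, show (3 + 16 * pk (List.replicate l.length 3)) % 16 = 3 by omega,
      show (3 + 16 * pk (List.replicate l.length 3)) / 16 = pk (List.replicate l.length 3) by omega, ih,
      show (3 : ℕ) = 2 ^ 2 - 1 from rfl, Nat.and_two_pow_sub_one_eq_mod]
    omega

theorem pk_congr {α : Type*} (f g : α → ℤ) : ∀ l : List α, (∀ a ∈ l, (4 : ℤ) ∣ f a - g a) →
    pk (l.map f) = pk (l.map g)
  | [], _ => rfl
  | a :: l, h => by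
    simp only [List.map_cons, pk]
    rw [pk_congr f g l fun b hb => h b (List.mem_cons_of_mem _ hb)]
    have := h a List.mem_cons_self
    congr 2
    omega

/-- The test key of a value at a position. -/
def key1 (k : Fin 28) (v : ℤ × ℤ) : ℕ :=
  pk (tests.map fun t => v.1 * t.getD (2 * k.val) 0 + v.2 * t.getD (2 * k.val + 1) 0)

/-- The keys of all assignments on a list of positions. -/
def sums (vals : List (ℤ × ℤ)) : List (Fin 28) → List ℕ
  | [] => [0]
  | k :: r => (fun R => (vals.map (key1 k)).flatMap fun a => R.map fun b => (a + b) &&& msk) (sums vals r)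

theorem pk_zero {α : Type*} : ∀ l : List α, pk (l.map fun _ => 0) = 0
  | [] => rfl
  | a :: l => by simp only [List.map_cons, pk, pk_zero l]; rfl

theorem mem_sums (vals : List (ℤ × ℤ)) (v : Fin 28 → ℤ × ℤ) : ∀ sup : List (Fin 28), (∀ k ∈ sup, v k ∈ vals) →
    pk (tests.map fun t => (sup.map fun k => (v k).1 * t.getD (2 * k.val) 0 + (v k).2 * t.getD (2 * k.val + 1) 0).sum) ∈
      sums vals sup
  | [], _ => by simp only [sums, List.map_nil, List.sum_nil, pk_zero, List.mem_singleton]
  | k :: r, h => by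
    simp only [sums, List.mem_flatMap, List.mem_map, List.map_cons, List.sum_cons]
    refine ⟨_, ⟨v k, h k List.mem_cons_self, rfl⟩, _, mem_sums vals v r (fun j hj => h j (List.mem_cons_of_mem _ hj)), ?_⟩
    exact pk_add _ _ tests

/-- Membership in a list of numbers. -/
def memN (a : ℕ) : List ℕ → Bool
  | [] => false
  | b :: l => Nat.beq a b || memN a l

theorem memN_iff (a : ℕ) (l : List ℕ) : memN a l = true ↔ a ∈ l := by
  induction l with
  | nil => simp [memN]
  | cons b l ih => simp [memN, ih]

/-- No assignment on the positions passes the tests. -/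
def noSol (vals : List (ℤ × ℤ)) (sup : List (Fin 28)) : Bool :=
  (fun B => (sums vals (sup.take (sup.length / 2))).all fun a => !memN a B)
    (sums (vals.map fun v => (-v.1, -v.2)) (sup.drop (sup.length / 2)))

theorem noSol_sound {vals : List (ℤ × ℤ)} {sup : List (Fin 28)} (h : noSol vals sup = true) (hnd : sup.Nodup)
    {x : RuVec} (hx : x ∈ span) (hin : ∀ k ∈ sup, cd x k ∈ vals) (hout : ∀ k, k ∉ sup → cd x k = (0, 0)) : False := by
  set A := sup.take (sup.length / 2) with hA
  set B := sup.drop (sup.length / 2) with hB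
  have hsplit : A ++ B = sup := List.take_append_drop _ _
  simp only [noSol, List.all_eq_true, Bool.not_eq_true', ← Bool.not_eq_true, memN_iff] at h
  have h1 := mem_sums vals (cd x) A fun k hk => hin k (List.mem_of_mem_take hk)
  have h2 := mem_sums (vals.map fun v => (-v.1, -v.2)) (fun k => (-(cd x k).1, -(cd x k).2)) B fun k hk =>
    List.mem_map.2 ⟨_, hin k (List.mem_of_mem_drop hk), rfl⟩
  refine h _ h1 ?_
  convert h2 using 1
  refine pk_congr _ _ tests fun t ht => ?_
  have hm := tests_mem
  simp only [List.all_eq_true, List.contains_iff_mem] at hm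
  have h4 := four_dvd_reProd hx (AddSubgroup.subset_closure (show rv t ∈ {y : RuVec | ∃ s ∈ basis, rv s = y} from
    ⟨t, hm t ht, rfl⟩))
  rw [reProd_rv] at h4
  set c : Fin 28 → ℤ := fun k => (cd x k).1 * t.getD (2 * k.val) 0 + (cd x k).2 * t.getD (2 * k.val + 1) 0 with hc
  have hsum : ∑ k, c k = (sup.map c).sum := by
    rw [← List.sum_toFinset c hnd]
    refine (Finset.sum_subset (Finset.subset_univ _) fun k _ hk => ?_).symm
    rw [List.mem_toFinset] at hk
    simp [hc, hout k hk]
  rw [hsum, ← hsplit, List.map_append, List.sum_append] at h4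
  have hneg : (B.map fun k => -(cd x k).1 * t.getD (2 * k.val) 0 + -(cd x k).2 * t.getD (2 * k.val + 1) 0).sum =
      -(B.map c).sum := by
    clear h4 hsum h2 h1
    induction B with
    | nil => simp
    | cons a l ih => simp only [List.map_cons, List.sum_cons, ih, hc]; ring
  rw [hneg, sub_neg_eq_add]
  exact h4

/-- The units. -/
def units : List (ℤ × ℤ) := [(1, 0), (0, 1), (-1, 0), (0, -1)]

/-- The values of norm two. -/
def diag : List (ℤ × ℤ) := [(1, 1), (1, -1), (-1, 1), (-1, -1)]

/-- The values of norm four. -/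
def units2 : List (ℤ × ℤ) := [(2, 0), (0, 2), (-2, 0), (0, -2)]

/-- The values of norm eight. -/
def diag2 : List (ℤ × ℤ) := [(2, 2), (2, -2), (-2, 2), (-2, -2)]

/-- The support of a mask. -/
def supOf (w : ℕ) : List (Fin 28) := (List.finRange 28).filter fun k => w.testBit k.val

/-- The supports of weight eight in the code. -/
def oddOk : Bool := (List.range 512).all fun m =>
  (fun w => w == 0 || (fun s => decide (8 < s.length) || (s.length == 8 && noSol units s)) (supOf w))
    (comb codeGens m)

theorem oddOk_true : oddOk = true := by decide +kernel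

theorem synList_ok : synList = (List.finRange 28).map fun k => Nat.ofBits fun i : Fin 18 =>
    decide (¬ (2 : ℤ) ∣ (halves.getD i.val []).getD (2 * k.val) 0 + (halves.getD i.val []).getD (2 * k.val + 1) 0) := by
  decide +kernel

/-- The supports of vectors with even parities. -/
def evenOk : Bool := [1, 2, 3, 4].all fun n => (List.sublistsLen n (List.finRange 28)).all fun s =>
  (s.map fun k => synList.getD k.val 0).foldr (· ^^^ ·) 0 != 0 || (n == 4 && noSol diag s)

theorem evenOk_true : evenOk = true := by decide +kernel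

/-- The supports of vectors divisible by two. -/
def twoOk : Bool := ((List.sublistsLen 2 (List.finRange 28)).all fun s => noSol units2 s) &&
  (List.sublistsLen 1 (List.finRange 28)).all fun s => noSol diag2 s

theorem twoOk_true : twoOk = true := by decide +kernel

theorem testBit_foldr_xor (l : List (Fin 28)) (a : Fin 28 → ℕ) (f : Fin 28 → ℤ) (i : ℕ)
    (hf : ∀ k ∈ l, (a k).testBit i = decide (¬ (2 : ℤ) ∣ f k)) :
    ((l.map a).foldr (· ^^^ ·) 0).testBit i = decide (¬ (2 : ℤ) ∣ (l.map f).sum) := by
  induction l with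
  | nil => simp
  | cons k l ih =>
    simp only [List.map_cons, List.foldr_cons, List.sum_cons, Nat.testBit_xor]
    rw [hf k List.mem_cons_self, ih fun j hj => hf j (List.mem_cons_of_mem _ hj)]
    generalize f k = u, (l.map f).sum = v
    by_cases h1 : (2 : ℤ) ∣ u <;> by_cases h2 : (2 : ℤ) ∣ v <;> simp [h1, h2] <;> omega

theorem small_norm {a b : ℤ} (h : a * a + b * b ≤ 8) : -2 ≤ a ∧ a ≤ 2 ∧ -2 ≤ b ∧ b ≤ 2 := by
  refine ⟨?_, ?_, ?_, ?_⟩ <;> nlinarith [mul_self_nonneg a, mul_self_nonneg b]

theorem mem_vals {a b c : ℤ} (hc : c = 1 ∨ c = 2 ∨ c = 4 ∨ c = 8) (h : a * a + b * b = c) :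
    (a, b) ∈ (if c = 1 then units else if c = 2 then diag else if c = 4 then units2 else diag2) := by
  obtain ⟨h1, h2, h3, h4⟩ := small_norm (a := a) (b := b) (by omega)
  interval_cases a <;> interval_cases b <;> norm_num at h <;> subst h <;>
    first | (norm_num [units, diag, units2, diag2]; done) | omega

/-- No vector of the span has norm eight. -/
theorem norm_ne_eight {x : RuVec} (hx : x ∈ span) : ruNorm x ≠ 8 := by
  intro h8
  set a : Fin 28 → ℤ := fun k => (cd x k).1 with ha
  set b : Fin 28 → ℤ := fun k => (cd x k).2 with hb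
  set n : Fin 28 → ℤ := fun k => a k * a k + b k * b k with hn
  have hn0 : ∀ k, 0 ≤ n k := fun k => add_nonneg (mul_self_nonneg _) (mul_self_nonneg _)
  have hsum : ∑ k, n k = 8 := by
    rw [← h8, ruNorm_eq, reProd, ← e.sum_comp]; rfl
  have hzero : ∀ k, n k = 0 → cd x k = (0, 0) := fun k hk => by
    have h1 : a k * a k = 0 := by nlinarith [mul_self_nonneg (a k), mul_self_nonneg (b k), hn0 k, hk]
    have h2 : b k * b k = 0 := by simp only [hn] at hk; omega
    exact Prod.ext (mul_self_eq_zero.1 h1) (mul_self_eq_zero.1 h2)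
  have hpar : ∀ k, (2 : ℤ) ∣ n k - (a k + b k) := fun k => by
    have := (Int.even_mul_succ_self (a k - 1)).two_dvd
    have := (Int.even_mul_succ_self (b k - 1)).two_dvd
    have e1 : (a k - 1) * (a k - 1 + 1) = a k * a k - a k := by ring
    have e2 : (b k - 1) * (b k - 1 + 1) = b k * b k - b k := by ring
    simp only [hn]; omega
  -- a family of positions with a lower bound exhausting the norm
  have hexact : ∀ (s : Finset (Fin 28)) (c : ℤ), (∀ k ∈ s, c ≤ n k) → (s.card : ℤ) * c = 8 →
      (∀ k ∈ s, n k = c) ∧ ∀ k, k ∉ s → n k = 0 := fun s c hle hc => by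
    have h1 := Finset.sum_le_sum hle
    rw [Finset.sum_const, nsmul_eq_mul, hc] at h1
    have h2 := Finset.sum_sdiff (Finset.subset_univ s) (f := n)
    have h3 : 0 ≤ ∑ k ∈ Finset.univ \ s, n k := Finset.sum_nonneg fun k _ => hn0 k
    refine ⟨fun k hk => ?_, fun k hk => (Finset.sum_eq_zero_iff_of_nonneg fun j _ => hn0 j).1 (by omega) k
      (Finset.mem_sdiff.2 ⟨Finset.mem_univ _, hk⟩)⟩
    exact ((Finset.sum_eq_sum_iff_of_le hle).1 (by rw [Finset.sum_const, nsmul_eq_mul, hc]; omega) k hk).symm
  have hbound : ∀ (s : Finset (Fin 28)) (c : ℤ), (∀ k ∈ s, c ≤ n k) → (s.card : ℤ) * c ≤ 8 := fun s c hle => by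
    have h1 := Finset.sum_le_sum hle
    rw [Finset.sum_const, nsmul_eq_mul] at h1
    have h2 := Finset.sum_le_sum_of_subset_of_nonneg (Finset.subset_univ s) (fun k _ _ => hn0 k)
    omega
  obtain ⟨m, hm, hmw⟩ := pm_mem_code hx
  have hodd := oddOk_true
  simp only [oddOk, List.all_eq_true, List.mem_range, Bool.or_eq_true, Bool.and_eq_true, beq_iff_eq,
    decide_eq_true_eq] at hodd
  rcases hodd m hm with hw | hw
  swap
  · -- eight units
    rw [hmw] at hw
    set s := supOf (pm x) with hs
    have hnd : s.Nodup := (List.nodup_finRange 28).filter _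
    have hmem : ∀ k, k ∈ s ↔ ¬ (2 : ℤ) ∣ a k + b k := fun k => by
      simp [hs, supOf, testBit_pm, ha, hb]
    have hle : ∀ k ∈ s.toFinset, (1 : ℤ) ≤ n k := fun k hk => by
      have := (hmem k).1 (List.mem_toFinset.1 hk)
      have := hpar k; have := hn0 k
      omega
    have hc := hbound _ 1 hle
    rw [List.toFinset_card_of_nodup hnd] at hc
    obtain ⟨hl, hno⟩ := hw.resolve_left (by omega)
    obtain ⟨e1, e0⟩ := hexact _ 1 hle (by rw [List.toFinset_card_of_nodup hnd, hl]; norm_num)
    refine noSol_sound hno hnd hx (fun k hk => ?_) fun k hk => hzero k (e0 k (by rwa [List.mem_toFinset]))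
    have := mem_vals (Or.inl rfl) (e1 k (List.mem_toFinset.2 hk))
    simpa using this
  -- all parities even
  have hev : ∀ k, (2 : ℤ) ∣ a k + b k := fun k => by
    have := testBit_pm x k
    rw [← hmw, hw, Nat.zero_testBit] at this
    have := of_decide_eq_false this.symm
    simpa [ha, hb] using this
  set q := (List.finRange 28).filter fun k => decide (¬ (4 : ℤ) ∣ n k) with hq
  have hqnd : q.Nodup := (List.nodup_finRange 28).filter _
  have hqsub : List.Sublist q (List.finRange 28) := List.filter_sublist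
  have hqmem : ∀ k, k ∈ q ↔ ¬ (4 : ℤ) ∣ n k := fun k => by simp [hq]
  have hmod : ∀ k, ((2 : ℤ) ∣ a k ∧ (2 : ℤ) ∣ b k ∧ (4 : ℤ) ∣ n k) ∨
      (¬ (2 : ℤ) ∣ a k ∧ ¬ (2 : ℤ) ∣ b k ∧ (4 : ℤ) ∣ n k - 2) := fun k => by
    have := hev k
    by_cases h : (2 : ℤ) ∣ a k
    · obtain ⟨u, hu⟩ := h
      obtain ⟨v, hv⟩ : (2 : ℤ) ∣ b k := by omega
      exact Or.inl ⟨⟨u, hu⟩, ⟨v, hv⟩, ⟨u * u + v * v, by simp only [hn, hu, hv]; ring⟩⟩
    · obtain ⟨u, hu⟩ : ∃ u, a k = 2 * u + 1 := ⟨a k / 2, by omega⟩
      obtain ⟨v, hv⟩ : ∃ v, b k = 2 * v + 1 := ⟨b k / 2, by omega⟩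
      exact Or.inr ⟨h, by omega, ⟨u * u + u + v * v + v, by simp only [hn, hu, hv]; ring⟩⟩
  by_cases hq0 : q.length = 0
  · -- divisible by two
    have h4 : ∀ k, (4 : ℤ) ∣ n k := fun k => by
      by_contra hne
      have := List.length_pos_of_mem ((hqmem k).2 hne)
      omega
    set r := (List.finRange 28).filter fun k => decide (n k ≠ 0) with hr
    have hrnd : r.Nodup := (List.nodup_finRange 28).filter _
    have hrsub : List.Sublist r (List.finRange 28) := List.filter_sublist
    have hrmem : ∀ k, k ∈ r ↔ n k ≠ 0 := fun k => by simp [hr]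
    have hle : ∀ k ∈ r.toFinset, (4 : ℤ) ≤ n k := fun k hk => by
      have := (hrmem k).1 (List.mem_toFinset.1 hk)
      have := h4 k; have := hn0 k
      omega
    have hc := hbound _ 4 hle
    rw [List.toFinset_card_of_nodup hrnd] at hc
    have h2 := twoOk_true
    simp only [twoOk, List.all_eq_true, Bool.and_eq_true] at h2
    rcases Nat.lt_or_ge r.length 1 with hl | hl
    · have : ∑ k, n k = 0 := Finset.sum_eq_zero fun k _ => by
        by_contra hne
        have := List.length_pos_of_mem ((hrmem k).2 hne)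
        omega
      omega
    rcases Nat.lt_or_ge r.length 2 with hl2 | hl2
    · have hle8 : ∀ k ∈ r.toFinset, (8 : ℤ) ≤ n k := fun k hk => by
        have he : r.toFinset = {k} := (Finset.eq_of_subset_of_card_le (Finset.singleton_subset_iff.2 hk) (by
          rw [List.toFinset_card_of_nodup hrnd, Finset.card_singleton]; omega)).symm
        rw [← hsum, Finset.sum_eq_single k]
        · intro j _ hj
          by_contra hne
          have : j ∈ r.toFinset := List.mem_toFinset.2 ((hrmem j).2 hne)
          rw [he, Finset.mem_singleton] at this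
          exact hj this
        · simp
      obtain ⟨e1, e0⟩ := hexact _ 8 hle8 (by rw [List.toFinset_card_of_nodup hrnd, show r.length = 1 by omega]; norm_num)
      refine noSol_sound (h2.2 r (List.mem_sublistsLen.2 ⟨hrsub, by omega⟩)) hrnd hx (fun k hk => ?_)
        fun k hk => hzero k (e0 k (by rwa [List.mem_toFinset]))
      have := mem_vals (Or.inr (Or.inr (Or.inr rfl))) (e1 k (List.mem_toFinset.2 hk))
      simpa using this
    · obtain ⟨e1, e0⟩ := hexact _ 4 hle (by rw [List.toFinset_card_of_nodup hrnd, show r.length = 2 by omega]; norm_num)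
      refine noSol_sound (h2.1 r (List.mem_sublistsLen.2 ⟨hrsub, by omega⟩)) hrnd hx (fun k hk => ?_)
        fun k hk => hzero k (e0 k (by rwa [List.mem_toFinset]))
      have := mem_vals (Or.inr (Or.inr (Or.inl rfl))) (e1 k (List.mem_toFinset.2 hk))
      simpa using this
  -- positions of norm two
  have hle : ∀ k ∈ q.toFinset, (2 : ℤ) ≤ n k := fun k hk => by
    have := (hqmem k).1 (List.mem_toFinset.1 hk)
    have := hn0 k
    rcases hmod k with h | h <;> omega
  have hc := hbound _ 2 hle
  rw [List.toFinset_card_of_nodup hqnd] at hc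
  have he := evenOk_true
  simp only [evenOk, List.all_eq_true, Bool.or_eq_true, Bool.and_eq_true, bne_iff_ne, beq_iff_eq] at he
  rcases he q.length (by rcases (show q.length = 1 ∨ q.length = 2 ∨ q.length = 3 ∨ q.length = 4 by omega) with h | h | h | h <;> rw [h] <;> simp)
    q (List.mem_sublistsLen.2 ⟨hqsub, rfl⟩) with h | ⟨hl, hno⟩
  · refine h (Nat.eq_of_testBit_eq fun i => ?_)
    rw [Nat.zero_testBit]
    by_cases hi : i < 18
    · set hv := halves.getD i [] with hhv
      set f : Fin 28 → ℤ := fun k => hv.getD (2 * k.val) 0 + hv.getD (2 * k.val + 1) 0 with hf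
      rw [testBit_foldr_xor q _ f i fun k _ => by
        rw [synList_ok, List.getD_eq_getElem _ _ (by simp), List.getElem_map, List.getElem_finRange]
        exact Nat.testBit_ofBits_lt _ i hi]
      simp only [decide_eq_false_iff_not, not_not]
      have hlen : i < halves.length := by rw [show halves.length = 18 by decide +kernel]; exact hi
      have hmemh : hv ∈ halves := by rw [hhv, List.getD_eq_getElem _ _ hlen]; exact List.getElem_mem hlen
      have h4 := four_dvd_reProd hx (imgOk_spec imgHalves hmemh)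
      rw [reProd_comm, reProd_add_left, reProd_comm, reProd_rv] at h4
      have hcong : (2 : ℤ) ∣ (∑ k, ((cd x k).1 * hv.getD (2 * k.val) 0 + (cd x k).2 * hv.getD (2 * k.val + 1) 0)) -
          ∑ k, if k ∈ q then f k else 0 := by
        rw [← Finset.sum_sub_distrib]
        refine Finset.dvd_sum fun k _ => ?_
        rcases hmod k with ⟨⟨u, hu⟩, ⟨v, hv'⟩, hn4⟩ | ⟨hu, hv', hn4⟩
        · rw [if_neg (fun hk => (hqmem k).1 hk hn4), show (cd x k).1 = 2 * u from hu, show (cd x k).2 = 2 * v from hv']
          exact ⟨u * hv.getD (2 * k.val) 0 + v * hv.getD (2 * k.val + 1) 0, by ring⟩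
        · rw [if_pos ((hqmem k).2 (by omega))]
          obtain ⟨u, hu'⟩ : ∃ u, a k = 2 * u + 1 := ⟨a k / 2, by omega⟩
          obtain ⟨v, hv''⟩ : ∃ v, b k = 2 * v + 1 := ⟨b k / 2, by omega⟩
          rw [show (cd x k).1 = 2 * u + 1 from hu', show (cd x k).2 = 2 * v + 1 from hv'', hf]
          exact ⟨u * hv.getD (2 * k.val) 0 + v * hv.getD (2 * k.val + 1) 0, by ring⟩
      have hq' : (q.map f).sum = ∑ k, if k ∈ q then f k else 0 := by
        rw [← List.sum_toFinset f hqnd, ← Finset.sum_filter]
        refine Finset.sum_congr ?_ fun _ _ => rfl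
        ext k; simp
      omega
    · have hb : ∀ k : Fin 28, (synList.getD k.val 0).testBit i = decide (¬ (2 : ℤ) ∣ (0 : ℤ)) := fun k => by
        rw [synList_ok, List.getD_eq_getElem _ _ (by simp), List.getElem_map, List.getElem_finRange,
          Nat.testBit_ofBits_ge _ _ (by omega)]
        simp
      rw [testBit_foldr_xor q _ (fun _ => (0 : ℤ)) i fun k _ => hb k]
      simp
  · obtain ⟨e1, e0⟩ := hexact _ 2 hle (by rw [List.toFinset_card_of_nodup hqnd, hl]; norm_num)
    refine noSol_sound hno hqnd hx (fun k hk => ?_) fun k hk => hzero k (e0 k (by rwa [List.mem_toFinset]))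
    have := mem_vals (Or.inr (Or.inl rfl)) (e1 k (List.mem_toFinset.2 hk))
    simpa using this

end Cfsg.Agent.RuLattice
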